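import Cfsg.Agent.CoOneType.InvMain
import Cfsg.Agent.CoOneType.ClosingFacts
import Cfsg.Agent.CoOneType.ClosingCo1
set_option linter.all false

/-!
# `Co₁` has exactly three classes of involutions
-/

set_option autoImplicit false
open Cfsg

namespace Cfsg.Agent.H811.CoOneInv

open Cfsg.Agent.SporadicA.GolayBase Cfsg.Agent.SporadicA.Co0Mono Cfsg.Agent.SporadicA.Co1Simple
open Cfsg.Agent.CoOneType.SignFacts (sup wt wt_add_allOne sign_allOne_comm wt_eq_of_conj)
open Cfsg.Agent.CoOneType.ClosingFacts (mk mk_mul mk_inv exists_mk mk_eq_one mk_eq isConj_mk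
  inv_cases sq_of_isConj_sign not_isConj)
open Cfsg.Agent.CoOneType.InvMain (b0 b0_mul_self conj_sign_of_sq_one conj_b0_of_sq_neg)

theorem allOne_ne : signCo0 allOne ≠ 1 := by
  intro h
  have h2 : signCo0 allOne * permCo0 1 = signCo0 0 * permCo0 1 := by rw [h, signCo0_zero]
  have h3 := congrArg (fun c : golayCode => (c : GolayPt → ZMod 2) none)
    (Cfsg.Agent.CoOneType.InvMain.sp_inj h2).1
  exact absurd h3 (by decide)

theorem b0_not (c : golayCode) : ¬ IsConj (mk (signCo0 c)) (mk b0) := by
  intro h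
  have h1 := sq_of_isConj_sign h
  rw [b0_mul_self] at h1
  exact allOne_ne h1

theorem mk_sign_ne {c : golayCode} (hc : wt c = 8 ∨ wt c = 12) : mk (signCo0 c) ≠ 1 := by
  intro h
  rw [mk_eq_one] at h
  have h0 : ∀ c d : golayCode, signCo0 c = signCo0 d → c = d := by
    intro c d h
    have h2 : signCo0 c * permCo0 1 = signCo0 d * permCo0 1 := by rw [h]
    exact (Cfsg.Agent.CoOneType.InvMain.sp_inj h2).1
  have hz : wt (0 : golayCode) = 0 := by
    have h1 : sup (0 : golayCode) = ∅ := by
      ext i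
      rw [Cfsg.Agent.CoOneType.SignFacts.mem_sup]
      simp
    show (sup (0 : golayCode)).card = 0
    rw [h1, Finset.card_empty]
  rcases h with h | h
  · rw [← signCo0_zero] at h
    have := h0 _ _ h
    rw [this, hz] at hc
    omega
  · have h3 := h0 _ _ h
    have h4 := wt_add_allOne c
    rw [h3] at h4
    have h5 : allOne + allOne = (0 : golayCode) := by
      apply Subtype.ext
      funext i
      show (1 : ZMod 2) + 1 = 0
      decide
    rw [h5, hz] at h4
    rw [h3] at hc
    omega

theorem orderOf_sign {c : golayCode} (hc : wt c = 8 ∨ wt c = 12) : orderOf (mk (signCo0 c)) = 2 := by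
  apply orderOf_eq_prime
  · rw [pow_two, ← mk_mul, signCo0_mul_self]; rfl
  · exact mk_sign_ne hc

theorem orderOf_b0 : orderOf (mk b0) = 2 := by
  apply orderOf_eq_prime
  · rw [pow_two, ← mk_mul, b0_mul_self, mk_eq_one]; exact Or.inr rfl
  · intro h
    rw [mk_eq_one] at h
    have h1 := b0_mul_self
    rcases h with h | h
    · rw [h, one_mul] at h1
      exact allOne_ne h1.symm
    · rw [h, signCo0_mul_self] at h1
      exact allOne_ne h1.symm

/-- **`Co₁` has exactly three classes of involutions.** -/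
theorem three_classes : ∃ a b c : Spor.Co1, orderOf a = 2 ∧ orderOf b = 2 ∧ orderOf c = 2 ∧
    ¬ IsConj a b ∧ ¬ IsConj a c ∧ ¬ IsConj b c ∧
    ∀ x : Spor.Co1, orderOf x = 2 → IsConj x a ∨ IsConj x b ∨ IsConj x c := by
  obtain ⟨o, ho⟩ := Cfsg.Agent.CoOneType.ClosingCo1.exists_octad
  obtain ⟨d, hd⟩ := Cfsg.Agent.CoOneType.ClosingCo1.exists_dodecad
  refine ⟨mk (signCo0 o), mk (signCo0 d), mk b0, orderOf_sign (Or.inl ho), orderOf_sign (Or.inr hd),
    orderOf_b0, not_isConj o d ho hd, b0_not o, b0_not d, ?_⟩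
  intro x hx
  have hxx : x * x = 1 := by rw [← pow_two, ← hx, pow_orderOf_eq_one]
  have hx1 : x ≠ 1 := by
    intro h
    rw [h, orderOf_one] at hx
    omega
  obtain ⟨t, rfl⟩ := exists_mk x
  rw [← mk_mul, mk_eq_one] at hxx
  rcases hxx with hk | hk
  · rcases inv_cases o d conj_sign_of_sq_one ho hd t hk hx1 with h | h
    · exact Or.inl h.symm
    · exact Or.inr (Or.inl h.symm)
  · obtain ⟨g, hg⟩ := conj_b0_of_sq_neg t hk
    exact Or.inr (Or.inr (isConj_mk g hg))

/-- transport along an isomorphism -/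
theorem three_classes_of {G : Type*} [Group G] (h : Spor.IsoCo1 G) :
    ∃ a b c : G, orderOf a = 2 ∧ orderOf b = 2 ∧ orderOf c = 2 ∧
    ¬ IsConj a b ∧ ¬ IsConj a c ∧ ¬ IsConj b c ∧
    ∀ x : G, orderOf x = 2 → IsConj x a ∨ IsConj x b ∨ IsConj x c := by
  obtain ⟨e⟩ := h
  obtain ⟨a, b, c, ha, hb, hc, hab, hac, hbc, hall⟩ := three_classes
  have key : ∀ x y : G, IsConj x y ↔ IsConj (e x) (e y) := by
    intro x y
    constructor
    · exact fun h => e.toMonoidHom.map_isConj h
    · intro h
      have := e.symm.toMonoidHom.map_isConj h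
      simpa using this
  refine ⟨e.symm a, e.symm b, e.symm c, ?_, ?_, ?_, ?_, ?_, ?_, ?_⟩
  · rw [← ha]; exact orderOf_injective e.symm.toMonoidHom e.symm.injective a
  · rw [← hb]; exact orderOf_injective e.symm.toMonoidHom e.symm.injective b
  · rw [← hc]; exact orderOf_injective e.symm.toMonoidHom e.symm.injective c
  · rw [key]; simpa using hab
  · rw [key]; simpa using hac
  · rw [key]; simpa using hbc
  · intro x hx
    have h1 : orderOf (e x) = 2 := by
      rw [← hx]; exact orderOf_injective e.toMonoidHom e.injective x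
    rcases hall (e x) h1 with h | h | h
    · left; rw [key]; simpa using h
    · right; left; rw [key]; simpa using h
    · right; right; rw [key]; simpa using h

end Cfsg.Agent.H811.CoOneInv
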