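import Cfsg.Agent.LThreeCo1.FourCo1
import Cfsg.Agent.H811.CoOneInv
import Cfsg.Agent.LargeExtra.Cards
import Cfsg.Agent.Lib.Cores
import Cfsg.Agent.FastGrp
import Cfsg.Agent.Prune
set_option linter.all false
prune_inst 0x7f00000000000000000000000000000000000000000000000000000000000000000000000000000000000000000000000000000000000000000000000000000000000000000000000000000000000000003fffffffffffffffffffffffffffbeffbdffffffff
open scoped Cfsg.Agent.FastGrp

-- part: H811/FrThree
section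
/-!
# Elements of order three of `C(z)` with small commutator with `Q = 2^{1+8}`

In the frame `Fr Q z a b x` with an element `D` permuting `x 1, x 2, x 3` cyclically: an element
`x 0 ^ k 0 ⋯ x 3 ^ k 3 D ^ m` of order three with `|[Q, s]| ≤ 8` is `x i ^ k`.
-/

set_option autoImplicit false

namespace Cfsg.Agent.H811.FrThree

open Cfsg Subgroup
open Cfsg.Agent.LThreeCo1.Four

/-- `|Q : C_Q(s)| ≤ |[Q, s]|` -/
theorem index_le {G : Type*} [Group G] [Finite G] (Q : Subgroup G) (s : G) :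
    ((centralizer ({s} : Set G)).subgroupOf Q).index ≤ Nat.card ↥⁅Q, zpowers s⁆ := by
  classical
  let f : Q → ↥⁅Q, zpowers s⁆ := fun q => ⟨(q : G) * s * (q : G)⁻¹ * s⁻¹,
    commutator_mem_commutator q.2 (mem_zpowers s)⟩
  have hf : ∀ a b : Q, f a = f b → a⁻¹ * b ∈ (centralizer ({s} : Set G)).subgroupOf Q := by
    intro a b h
    have h1 : (a : G) * s * (a : G)⁻¹ * s⁻¹ = b * s * (b : G)⁻¹ * s⁻¹ := congrArg Subtype.val h
    have h2 : (a : G) * s * (a : G)⁻¹ = b * s * (b : G)⁻¹ := mul_right_cancel h1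
    rw [mem_subgroupOf, mem_centralizer_singleton_iff]
    show (a : G)⁻¹ * b * s = s * ((a : G)⁻¹ * b)
    calc (a : G)⁻¹ * b * s = (a : G)⁻¹ * (b * s * (b : G)⁻¹) * b := by group
      _ = (a : G)⁻¹ * (a * s * (a : G)⁻¹) * b := by rw [h2]
      _ = s * ((a : G)⁻¹ * b) := by group
  have hinj : Function.Injective (fun c : Q ⧸ (centralizer ({s} : Set G)).subgroupOf Q => f c.out) := by
    intro c d h
    have h1 := hf _ _ h
    rw [← QuotientGroup.out_eq' c, ← QuotientGroup.out_eq' d]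
    exact QuotientGroup.eq.2 h1
  exact Nat.card_le_card_of_injective _ hinj

section

variable {G : Type*} [Group G] [Finite G] {Q : Subgroup G} {z : G} {a b x : Fin 4 → G}

/-- the image of `b i` under a product of powers -/
theorem pc_vb (F : Fr Q z a b x) (k : Fin 4 → ℕ) (i : Fin 4) :
    F.large.act (pc F k) (vb F i) = F.large.act (xc F i ^ k i) (vb F i) := by
  have hc : ∀ j, ((xc F j : centralizer ({z} : Set G)) : G) * xc F i = xc F i * xc F j := fun j => F.xx j i
  have hp : ((pc F k : centralizer ({z} : Set G)) : G) * xc F i = xc F i * pc F k := by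
    have h1 : ∀ j, Commute (x j ^ k j) (x i) := fun j => (show Commute (x j) (x i) from F.xx j i).pow_left _
    exact ((h1 0).mul_left ((h1 1).mul_left ((h1 2).mul_left (h1 3)))).eq
  rw [← x_va F i, act_comm F hp, pc_va, act_comm F (g := xc F i ^ k i)]
  rw [SubmonoidClass.coe_pow]
  exact ((Commute.refl (x i)).pow_left _).eq

omit [Finite G] in
theorem pow_mod (F : Fr Q z a b x) (i : Fin 4) (n : ℕ) : x i ^ n = x i ^ (n % 3) := by
  conv_lhs => rw [← Nat.div_add_mod n 3]
  rw [pow_add, pow_mul, F.x3, one_pow, one_mul]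

theorem xc_pow_mod (F : Fr Q z a b x) (i : Fin 4) (n : ℕ) : xc F i ^ n = xc F i ^ (n % 3) := by
  apply Subtype.ext
  rw [SubmonoidClass.coe_pow, SubmonoidClass.coe_pow]
  exact pow_mod F i n

/-- an element of `Q` commuting with `∏ x j ^ k j` commutes with `x i` if `3 ∤ k i` -/
theorem comm_of_px (F : Fr Q z a b x) (k : Fin 4 → ℕ) {q : G} (hq : q ∈ Q) (h : q * px x k = px x k * q)
    {i : Fin 4} (hi : k i % 3 ≠ 0) : q * x i = x i * q := by
  set v := F.large.pr ⟨q, hq⟩ with hv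
  have hfix : F.large.act (pc F k) v = v := by
    rw [hv, F.large.act_pr]
    congr 1
    apply Subtype.ext
    show px x k * q * (px x k)⁻¹ = q
    rw [← h, mul_inv_cancel_right]
  have ha : F.large.b v (va F i) = F.large.b v (F.large.act (xc F i ^ k i) (va F i)) := by
    rw [← pc_va F k i]
    conv_rhs => rw [← hfix]
    rw [F.large.b_act]
  have hb : F.large.b v (vb F i) = F.large.b v (F.large.act (xc F i ^ k i) (vb F i)) := by
    rw [← pc_vb F k i]
    conv_rhs => rw [← hfix]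
    rw [F.large.b_act]
  rw [xc_pow_mod] at ha hb
  have hlt : k i % 3 < 3 := Nat.mod_lt _ (by norm_num)
  have hboth : F.large.b v (va F i) = 0 ∧ F.large.b v (vb F i) = 0 := by
    generalize k i % 3 = m at *
    interval_cases m
    · exact absurd rfl hi
    · rw [pow_one, x_va] at ha
      rw [pow_one, x_vb, map_add] at hb
      have h1 : F.large.b v (va F i) = 0 := by simpa only [_root_.right_eq_add] using hb
      exact ⟨h1, by rw [← ha, h1]⟩
    · have e2 : F.large.act (xc F i ^ 2) (va F i) = va F i + vb F i := by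
        rw [pow_two, map_mul]
        show F.large.act (xc F i) (F.large.act (xc F i) (va F i)) = _
        rw [x_va, x_vb]
      have e3 : F.large.act (xc F i ^ 2) (vb F i) = va F i := by
        rw [pow_two, map_mul]
        show F.large.act (xc F i) (F.large.act (xc F i) (vb F i)) = _
        rw [x_vb, map_add, x_va, x_vb, add_comm (va F i), ← add_assoc, F.large.add_self, zero_add]
      rw [e2, map_add] at ha
      rw [e3] at hb
      have h1 : F.large.b v (vb F i) = 0 := by simpa only [_root_.left_eq_add] using ha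
      exact ⟨by rw [← hb, h1], h1⟩
  exact x_of_comm F hq ((F.large.b_pr ⟨q, hq⟩ ⟨a i, F.aQ i⟩).1 hboth.1)
    ((F.large.b_pr ⟨q, hq⟩ ⟨b i, F.bQ i⟩).1 hboth.2)

omit [Finite G] in
theorem card_sub_swap {A B : Subgroup G} : Nat.card (A.subgroupOf B) = Nat.card (B.subgroupOf A) := by
  apply Nat.card_congr
  exact
    { toFun := fun g => ⟨⟨g.1.1, g.2⟩, g.1.2⟩
      invFun := fun g => ⟨⟨g.1.1, g.2⟩, g.1.2⟩
      left_inv := fun _ => rfl
      right_inv := fun _ => rfl }

/-- the index of `C_Q(x i, i ∈ I)` -/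
theorem index_mul (F : Fr Q z a b x) (I : Set (Fin 4)) {n : ℕ}
    (hn : Nat.card {c : Fin 4 → ZMod 2 × ZMod 2 // ∀ i ∈ I, c i = 0} = n) :
    2 * n * ((centralizer (x '' I)).subgroupOf Q).index = 512 := by
  have h := card_cent F I
  rw [hn, card_sub_swap] at h
  rw [← h, Subgroup.card_mul_index, F.card]

theorem index_one (F : Fr Q z a b x) (i : Fin 4) : ((centralizer ({x i} : Set G)).subgroupOf Q).index = 4 := by
  have h := index_mul F {i} (n := 64) (by
    rw [Nat.card_eq_fintype_card]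
    revert i; decide +kernel)
  rw [Set.image_singleton] at h
  omega

theorem index_two (F : Fr Q z a b x) {i j : Fin 4} (hij : i ≠ j) :
    ((centralizer ({x i, x j} : Set G)).subgroupOf Q).index = 16 := by
  have h := index_mul F {i, j} (n := 16) (by
    rw [Nat.card_eq_fintype_card]
    revert i j; decide +kernel)
  rw [Set.image_pair] at h
  omega

theorem index_three (F : Fr Q z a b x) :
    ((centralizer (x '' {1, 2, 3})).subgroupOf Q).index = 64 := by
  have h := index_mul F {1, 2, 3} (n := 4) (by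
    rw [Nat.card_eq_fintype_card]
    decide +kernel)
  omega

theorem index_mono {A B : Subgroup G} (h : ∀ g ∈ Q, g ∈ A → g ∈ B) :
    (B.subgroupOf Q).index ≤ (A.subgroupOf Q).index := by
  apply Nat.le_of_dvd (Nat.pos_of_ne_zero (index_ne_zero_of_finite))
  apply Subgroup.index_dvd_of_le
  intro g hg
  exact h g g.2 hg

/-- **the case of a product of powers of the `x i`** -/
theorem case_px (F : Fr Q z a b x) (k : Fin 4 → ℕ) (hne : px x k ≠ 1)
    (h : Nat.card ↥⁅Q, zpowers (px x k)⁆ ≤ 8) : ∃ i, px x k = x i ∨ px x k = (x i)⁻¹ := by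
  have h1 : ((centralizer ({px x k} : Set G)).subgroupOf Q).index ≤ 8 := (index_le Q (px x k)).trans h
  have huniq : ∀ i j, k i % 3 ≠ 0 → k j % 3 ≠ 0 → i = j := by
    intro i j hi hj
    by_contra hij
    have h2 : ((centralizer ({x i, x j} : Set G)).subgroupOf Q).index ≤
        ((centralizer ({px x k} : Set G)).subgroupOf Q).index := by
      apply index_mono
      intro g hg hgc
      have hgc' : g * px x k = px x k * g := mem_centralizer_singleton_iff.1 hgc
      rw [mem_centralizer_iff]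
      rintro y (rfl | hy)
      · exact (comm_of_px F k hg hgc' hi).symm
      · rw [Set.mem_singleton_iff.1 hy]
        exact (comm_of_px F k hg hgc' hj).symm
    rw [index_two F hij] at h2
    omega
  by_cases hall : ∀ i, k i % 3 = 0
  · exfalso
    apply hne
    have h2 : ∀ i, x i ^ k i = 1 := fun i => by rw [pow_mod F, hall i, pow_zero]
    unfold px
    rw [h2, h2, h2, h2]
    simp
  · push Not at hall
    obtain ⟨i, hi⟩ := hall
    have h2 : ∀ j, j ≠ i → x j ^ k j = 1 := by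
      intro j hj
      have h3 : k j % 3 = 0 := by
        by_contra h4
        exact hj (huniq j i h4 hi)
      rw [pow_mod F, h3, pow_zero]
    have h3 : px x k = x i ^ k i := by
      unfold px
      fin_cases i
      · rw [h2 1 (by decide), h2 2 (by decide), h2 3 (by decide)]; simp
      · rw [h2 0 (by decide), h2 2 (by decide), h2 3 (by decide)]; simp
      · rw [h2 0 (by decide), h2 1 (by decide), h2 3 (by decide)]; simp
      · rw [h2 0 (by decide), h2 1 (by decide), h2 2 (by decide)]; simp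
    refine ⟨i, ?_⟩
    rw [h3, pow_mod F]
    have hlt : k i % 3 < 3 := Nat.mod_lt _ (by norm_num)
    have h4 : k i % 3 = 1 ∨ k i % 3 = 2 := by omega
    rcases h4 with h4 | h4
    · left; rw [h4, pow_one]
    · right
      rw [h4]
      exact eq_inv_of_mul_eq_one_left (by rw [← pow_succ, F.x3])

/-- the case of an element permuting `x 1`, `x 2`, `x 3` -/
theorem case_cycle (F : Fr Q z a b x) {s : G}
    (hs : (s * x 1 = x 2 * s ∧ s * x 2 = x 3 * s ∧ s * x 3 = x 1 * s) ∨
      (s * x 1 = x 3 * s ∧ s * x 3 = x 2 * s ∧ s * x 2 = x 1 * s)) :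
    8 < Nat.card ↥⁅Q, zpowers s⁆ := by
  by_contra hcon
  push Not at hcon
  have h1 : ((centralizer ({s} : Set G)).subgroupOf Q).index ≤ 8 := (index_le Q s).trans hcon
  have h2 : ((centralizer (x '' {1, 2, 3})).subgroupOf Q).index ≤
      (((centralizer ({s} : Set G)) ⊓ centralizer ({x 1} : Set G)).subgroupOf Q).index := by
    apply index_mono
    intro g _ hgc
    obtain ⟨hg1, hg2⟩ := hgc
    have hgs : Commute g s := mem_centralizer_singleton_iff.1 hg1
    have hg1 : Commute g (x 1) := mem_centralizer_singleton_iff.1 hg2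
    have hstep : ∀ {i j : Fin 4}, s * x i = x j * s → Commute g (x i) → Commute g (x j) := by
      intro i j hij hgi
      have e : x j = s * x i * s⁻¹ := by rw [hij, mul_inv_cancel_right]
      rw [e]
      exact (hgs.mul_right hgi).mul_right hgs.inv_right
    have hg23 : Commute g (x 2) ∧ Commute g (x 3) := by
      rcases hs with ⟨e1, e2, e3⟩ | ⟨e1, e2, e3⟩
      · have c2 := hstep e1 hg1
        exact ⟨c2, hstep e2 c2⟩
      · have c3 := hstep e1 hg1
        exact ⟨hstep e2 c3, c3⟩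
    rw [mem_cent_iff]
    intro i hi
    rcases hi with rfl | rfl | hi
    · exact hg1.eq
    · exact hg23.1.eq
    · rw [Set.mem_singleton_iff.1 hi]; exact hg23.2.eq
  rw [index_three F] at h2
  have h3 : (((centralizer ({s} : Set G)) ⊓ centralizer ({x 1} : Set G)).subgroupOf Q).index ≤
      ((centralizer ({s} : Set G)).subgroupOf Q).index * ((centralizer ({x 1} : Set G)).subgroupOf Q).index := by
    rw [show ((centralizer ({s} : Set G)) ⊓ centralizer ({x 1} : Set G)).subgroupOf Q =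
      (centralizer ({s} : Set G)).subgroupOf Q ⊓ (centralizer ({x 1} : Set G)).subgroupOf Q from
      Subgroup.comap_inf _ _ _]
    exact Subgroup.index_inf_le
  rw [index_one F 1] at h3
  omega

end

end Cfsg.Agent.H811.FrThree
end

-- part: H811/FrSyl
section
/-!
# The group `⟨x 0, x 1, x 2, x 3, D⟩` of order `3 ^ 5` in the frame of `2^{1+8}`

and the consequence: an element of order three of `C(z)` with `|[Q, x]| ≤ 8` is conjugate to some `x i` or its inverse,
if `3 ^ 6` does not divide `|C(z)|`.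
-/

set_option autoImplicit false

namespace Cfsg.Agent.H811.FrSyl

open Cfsg Subgroup
open Cfsg.Agent.LThreeCo1.Four
open Cfsg.Agent.H811.FrThree

/-- a subgroup of prime order is conjugate into a `p`-subgroup of index prime to `p` -/
theorem exists_mem {G : Type*} [Group G] [Finite G] {C S : Subgroup G} {p : ℕ} (hp : p.Prime) (hS : IsPGroup p S)
    (hidx : ¬ p ∣ S.relIndex C) {x : G} (hx : orderOf x = p) (hxC : x ∈ C) : ∃ c ∈ C, c * x * c⁻¹ ∈ S := by
  have : Fact p.Prime := ⟨hp⟩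
  have hS' : IsPGroup p (S.subgroupOf C) := hS.comap_of_injective C.subtype Subtype.val_injective
  have hX' : IsPGroup p (zpowers (⟨x, hxC⟩ : C)) :=
    IsPGroup.of_card (n := 1) (by rw [Nat.card_zpowers, Subgroup.orderOf_mk, hx, pow_one])
  obtain ⟨Q, hQ⟩ := hX'.exists_le_sylow
  obtain ⟨c, hc⟩ := MulAction.exists_smul_eq C Q (hS'.toSylow hidx)
  refine ⟨c, c.2, ?_⟩
  have h1 : (⟨x, hxC⟩ : C) ∈ (Q : Subgroup C) := hQ (mem_zpowers _)
  have h2 : c * ⟨x, hxC⟩ * c⁻¹ ∈ ((c • Q : Sylow p C) : Subgroup C) := by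
    have : c * ⟨x, hxC⟩ * c⁻¹ = (MulAut.conj c) • (⟨x, hxC⟩ : C) := rfl
    rw [this]
    exact Subgroup.smul_mem_pointwise_smul _ _ _ h1
  rw [hc] at h2
  exact Subgroup.mem_subgroupOf.1 h2

variable {G : Type*} [Group G] {Q : Subgroup G} {z : G} {a b x : Fin 4 → G}

/-- an element permuting `x 1, x 2, x 3` -/
structure Cyc (z : G) (x : Fin 4 → G) (D : G) : Prop where
  z : D * z = z * D
  h0 : D * x 0 = x 0 * D
  h1 : D * x 1 = x 2 * D
  h2 : D * x 2 = x 3 * D
  h3 : D * x 3 = x 1 * D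
  cube : D ^ 3 = 1

variable {D : G}

theorem conj_pow_eq {u v d : G} (h : d * u = v * d) (n : ℕ) : d * u ^ n = v ^ n * d := by
  have h1 : SemiconjBy d u v := h
  exact (h1.pow_right n).eq

theorem D_px (F : Fr Q z a b x) (H : Cyc z x D) (k : Fin 4 → ℕ) :
    D * px x k = px x ![k 0, k 3, k 1, k 2] * D := by
  have e0 := conj_pow_eq H.h0 (k 0)
  have e1 := conj_pow_eq H.h1 (k 1)
  have e2 := conj_pow_eq H.h2 (k 2)
  have e3 := conj_pow_eq H.h3 (k 3)
  have hc : ∀ (i j : Fin 4) (m n : ℕ), x i ^ m * x j ^ n = x j ^ n * x i ^ m := fun i j m n =>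
    ((show Commute (x i) (x j) from F.xx i j).pow_pow m n).eq
  unfold px
  show D * (x 0 ^ k 0 * (x 1 ^ k 1 * (x 2 ^ k 2 * x 3 ^ k 3))) =
    x 0 ^ k 0 * (x 1 ^ k 3 * (x 2 ^ k 1 * x 3 ^ k 2)) * D
  calc D * (x 0 ^ k 0 * (x 1 ^ k 1 * (x 2 ^ k 2 * x 3 ^ k 3)))
      = (D * x 0 ^ k 0) * (x 1 ^ k 1 * (x 2 ^ k 2 * x 3 ^ k 3)) := by rw [mul_assoc]
    _ = x 0 ^ k 0 * ((D * x 1 ^ k 1) * (x 2 ^ k 2 * x 3 ^ k 3)) := by rw [e0]; simp only [mul_assoc]
    _ = x 0 ^ k 0 * (x 2 ^ k 1 * ((D * x 2 ^ k 2) * x 3 ^ k 3)) := by rw [e1]; simp only [mul_assoc]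
    _ = x 0 ^ k 0 * (x 2 ^ k 1 * (x 3 ^ k 2 * (D * x 3 ^ k 3))) := by rw [e2]; simp only [mul_assoc]
    _ = x 0 ^ k 0 * (x 2 ^ k 1 * (x 3 ^ k 2 * x 1 ^ k 3)) * D := by rw [e3]; simp only [mul_assoc]
    _ = x 0 ^ k 0 * (x 1 ^ k 3 * (x 2 ^ k 1 * x 3 ^ k 2)) * D := by
      rw [hc 3 1, ← mul_assoc (x 2 ^ k 1), hc 2 1, mul_assoc (x 1 ^ k 3)]

theorem px_mul (F : Fr Q z a b x) (k l : Fin 4 → ℕ) : px x k * px x l = px x (k + l) := by
  have hc : ∀ (i j : Fin 4) (m n : ℕ), Commute (x i ^ m) (x j ^ n) := fun i j m n =>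
    ((show Commute (x i) (x j) from F.xx i j).pow_pow m n)
  unfold px
  simp only [Pi.add_apply, pow_add]
  have c1 : Commute (x 1 ^ k 1 * (x 2 ^ k 2 * x 3 ^ k 3)) (x 0 ^ l 0) :=
    (hc 1 0 _ _).mul_left ((hc 2 0 _ _).mul_left (hc 3 0 _ _))
  have c2 : Commute (x 2 ^ k 2 * x 3 ^ k 3) (x 1 ^ l 1) := (hc 2 1 _ _).mul_left (hc 3 1 _ _)
  have c3 : Commute (x 3 ^ k 3) (x 2 ^ l 2) := hc 3 2 _ _
  calc x 0 ^ k 0 * (x 1 ^ k 1 * (x 2 ^ k 2 * x 3 ^ k 3)) * (x 0 ^ l 0 * (x 1 ^ l 1 * (x 2 ^ l 2 * x 3 ^ l 3)))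
      = x 0 ^ k 0 * ((x 1 ^ k 1 * (x 2 ^ k 2 * x 3 ^ k 3)) * x 0 ^ l 0) * (x 1 ^ l 1 * (x 2 ^ l 2 * x 3 ^ l 3)) := by
        simp only [mul_assoc]
    _ = x 0 ^ k 0 * x 0 ^ l 0 * x 1 ^ k 1 * ((x 2 ^ k 2 * x 3 ^ k 3) * x 1 ^ l 1) * (x 2 ^ l 2 * x 3 ^ l 3) := by
        rw [c1.eq]; simp only [mul_assoc]
    _ = x 0 ^ k 0 * x 0 ^ l 0 * (x 1 ^ k 1 * x 1 ^ l 1) * x 2 ^ k 2 * (x 3 ^ k 3 * x 2 ^ l 2) * x 3 ^ l 3 := by
        rw [c2.eq]; simp only [mul_assoc]
    _ = _ := by rw [c3.eq]; simp only [mul_assoc]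

theorem D_pow_px (F : Fr Q z a b x) (H : Cyc z x D) (m : ℕ) (k : Fin 4 → ℕ) :
    ∃ l, D ^ m * px x k = px x l * D ^ m := by
  induction m with
  | zero => exact ⟨k, by rw [pow_zero, one_mul, mul_one]⟩
  | succ m ih =>
    obtain ⟨l, hl⟩ := ih
    exact ⟨![l 0, l 3, l 1, l 2], by rw [pow_succ', mul_assoc, hl, ← mul_assoc, D_px F H, mul_assoc]⟩

theorem px_zero : px x 0 = 1 := by
  unfold px; simp

theorem px_mod (F : Fr Q z a b x) [Finite G] (k : Fin 4 → ℕ) : px x k = px x (fun i => k i % 3) := by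
  unfold px
  rw [pow_mod F 0, pow_mod F 1, pow_mod F 2, pow_mod F 3]

theorem D_mod (H : Cyc z x D) (m : ℕ) : D ^ m = D ^ (m % 3) := by
  conv_lhs => rw [← Nat.div_add_mod m 3]
  rw [pow_add, pow_mul, H.cube, one_pow, one_mul]

/-- the group `⟨x 0, x 1, x 2, x 3, D⟩` -/
def S (F : Fr Q z a b x) (H : Cyc z x D) : Subgroup G where
  carrier := {g | ∃ (k : Fin 4 → ℕ) (m : ℕ), px x k * D ^ m = g}
  one_mem' := ⟨0, 0, by rw [px_zero, pow_zero, one_mul]⟩
  mul_mem' := by
    rintro _ _ ⟨k, m, rfl⟩ ⟨l, n, rfl⟩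
    obtain ⟨l', hl'⟩ := D_pow_px F H m l
    refine ⟨k + l', m + n, ?_⟩
    rw [← px_mul F, pow_add]
    calc px x k * px x l' * (D ^ m * D ^ n) = px x k * (px x l' * D ^ m) * D ^ n := by simp only [mul_assoc]
      _ = px x k * D ^ m * (px x l * D ^ n) := by rw [← hl']; simp only [mul_assoc]
  inv_mem' := by
    rintro _ ⟨k, m, rfl⟩
    obtain ⟨l, hl⟩ := D_pow_px F H (2 * m) (k + k)
    refine ⟨l, 2 * m, ?_⟩
    rw [← hl, eq_comm, inv_eq_iff_mul_eq_one]
    have e1 : D ^ m * D ^ (2 * m) = 1 := by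
      rw [← pow_add, show m + 2 * m = 3 * m by ring, pow_mul, H.cube, one_pow]
    have e2 : px x k * px x (k + k) = 1 := by
      rw [px_mul F]
      unfold px
      have : ∀ i, x i ^ (k + (k + k)) i = 1 := by
        intro i
        rw [Pi.add_apply, Pi.add_apply, show k i + (k i + k i) = 3 * k i by ring, pow_mul, F.x3, one_pow]
      rw [this, this, this, this]; simp
    calc px x k * D ^ m * (D ^ (2 * m) * px x (k + k)) = px x k * (D ^ m * D ^ (2 * m)) * px x (k + k) := by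
          simp only [mul_assoc]
      _ = 1 := by rw [e1, mul_one, e2]

theorem a_ne_b (F : Fr Q z a b x) (i : Fin 4) : a i ≠ b i := by
  intro h
  have h1 := F.ba i
  rw [h] at h1
  exact F.large.z_ne (mul_left_cancel (h1.symm.trans (mul_one _).symm))

theorem x_ne (F : Fr Q z a b x) {i j : Fin 4} (hij : i ≠ j) : x i ≠ x j := by
  intro h
  apply a_ne_b F i
  have h1 := F.xa i
  rw [h, F.xa' j i hij.symm, ← h] at h1
  exact mul_right_cancel h1

section fin

variable [Finite G]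

theorem act_pow_inj (F : Fr Q z a b x) (i : Fin 4) {m n : ℕ} (hm : m < 3) (hn : n < 3)
    (h : F.large.act (xc F i ^ m) (va F i) = F.large.act (xc F i ^ n) (va F i)) : m = n := by
  have e0 : F.large.act (xc F i ^ 0) (va F i) = va F i := by rw [pow_zero, map_one]; rfl
  have e1 : F.large.act (xc F i ^ 1) (va F i) = vb F i := by rw [pow_one, x_va]
  have e2 : F.large.act (xc F i ^ 2) (va F i) = va F i + vb F i := by
    rw [pow_two, map_mul]
    show F.large.act (xc F i) (F.large.act (xc F i) (va F i)) = _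
    rw [x_va, x_vb]
  have hab : F.large.b (va F i) (vb F i) = 1 := b_ab_self F i
  have haa : F.large.b (va F i) (va F i) = 0 := b_aa F i i
  have n01 : va F i ≠ vb F i := by
    intro h
    rw [← h, haa] at hab
    exact absurd hab (by decide)
  have n02 : va F i ≠ va F i + vb F i := by
    intro h
    have h1 : vb F i = 0 := by simpa using h.symm
    rw [h1, map_zero] at hab
    exact absurd hab (by decide)
  have n12 : vb F i ≠ va F i + vb F i := by
    intro h
    have h1 : va F i = 0 := by simpa using h.symm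
    rw [h1, map_zero] at hab
    have h2 : (0 : ZMod 2) = 1 := hab
    exact absurd h2 (by decide)
  interval_cases m <;> interval_cases n
  · rfl
  · rw [e0, e1] at h; exact absurd h n01
  · rw [e0, e2] at h; exact absurd h n02
  · rw [e1, e0] at h; exact absurd h.symm n01
  · rfl
  · rw [e1, e2] at h; exact absurd h n12
  · rw [e2, e0] at h; exact absurd h.symm n02
  · rw [e2, e1] at h; exact absurd h.symm n12
  · rfl

theorem px_inj (F : Fr Q z a b x) {k l : Fin 4 → ℕ} (hk : ∀ i, k i < 3) (hl : ∀ i, l i < 3)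
    (h : px x k = px x l) : k = l := by
  funext i
  apply act_pow_inj F i (hk i) (hl i)
  rw [← pc_va F k i, ← pc_va F l i]
  have : pc F k = pc F l := Subtype.ext h
  rw [this]

theorem cyc_pow (H : Cyc z x D) : D ^ 2 * x 1 = x 3 * D ^ 2 ∧ D ^ 2 * x 3 = x 2 * D ^ 2 ∧
    D ^ 2 * x 2 = x 1 * D ^ 2 := by
  refine ⟨?_, ?_, ?_⟩
  · rw [pow_two, mul_assoc, H.h1, ← mul_assoc, H.h2, mul_assoc]
  · rw [pow_two, mul_assoc, H.h3, ← mul_assoc, H.h1, mul_assoc]
  · rw [pow_two, mul_assoc, H.h2, ← mul_assoc, H.h3, mul_assoc]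

theorem px_comm (F : Fr Q z a b x) (k : Fin 4 → ℕ) (i : Fin 4) : px x k * x i = x i * px x k := by
  have h1 : ∀ j, Commute (x j ^ k j) (x i) := fun j => (show Commute (x j) (x i) from F.xx j i).pow_left _
  exact ((h1 0).mul_left ((h1 1).mul_left ((h1 2).mul_left (h1 3)))).eq

theorem conj_of {F : Fr Q z a b x} {k : Fin 4 → ℕ} {d : G} {i j : Fin 4} (h : d * x i = x j * d) :
    px x k * d * x i = x j * (px x k * d) := by
  rw [mul_assoc, h, ← mul_assoc, px_comm F, mul_assoc]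

theorem m_inj (F : Fr Q z a b x) (H : Cyc z x D) {k l : Fin 4 → ℕ} {m n : ℕ} (hm : m < 3) (hn : n < 3)
    (h : px x k * D ^ m = px x l * D ^ n) : m = n := by
  have key : ∀ {d : G} {i j : Fin 4}, d * x 1 = x i * d → d * x 1 = x j * d → i = j := by
    intro d i j h1 h2
    by_contra hij
    exact x_ne F hij (mul_right_cancel (h1.symm.trans h2))
  have e0 : D ^ 0 * x 1 = x 1 * D ^ 0 := by rw [pow_zero, one_mul, mul_one]
  have e1 : D ^ 1 * x 1 = x 2 * D ^ 1 := by rw [pow_one]; exact H.h1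
  have e2 : D ^ 2 * x 1 = x 3 * D ^ 2 := (cyc_pow H).1
  have f0 := conj_of (F := F) (k := k) e0
  have f1 := conj_of (F := F) (k := k) e1
  have f2 := conj_of (F := F) (k := k) e2
  have g0 := conj_of (F := F) (k := l) e0
  have g1 := conj_of (F := F) (k := l) e1
  have g2 := conj_of (F := F) (k := l) e2
  interval_cases m <;> interval_cases n
  · rfl
  · rw [h] at f0; exact absurd (key f0 g1) (by decide)
  · rw [h] at f0; exact absurd (key f0 g2) (by decide)
  · rw [h] at f1; exact absurd (key f1 g0) (by decide)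
  · rfl
  · rw [h] at f1; exact absurd (key f1 g2) (by decide)
  · rw [h] at f2; exact absurd (key f2 g0) (by decide)
  · rw [h] at f2; exact absurd (key f2 g1) (by decide)
  · rfl

theorem card_S (F : Fr Q z a b x) (H : Cyc z x D) : Nat.card (S F H) = 243 := by
  let f : (Fin 4 → Fin 3) × Fin 3 → S F H := fun p => ⟨px x (fun i => (p.1 i : ℕ)) * D ^ (p.2 : ℕ), ⟨_, _, rfl⟩⟩
  have hf : Function.Bijective f := by
    constructor
    · rintro ⟨k, m⟩ ⟨l, n⟩ h
      have h1 : px x (fun i => (k i : ℕ)) * D ^ (m : ℕ) = px x (fun i => (l i : ℕ)) * D ^ (n : ℕ) :=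
        congrArg Subtype.val h
      have h2 := m_inj F H m.2 n.2 h1
      rw [h2] at h1
      have h3 := px_inj F (fun i => (k i).2) (fun i => (l i).2) (mul_right_cancel h1)
      ext
      · exact congrFun h3 _
      · exact h2
    · rintro ⟨_, k, m, rfl⟩
      refine ⟨⟨fun i => ⟨k i % 3, Nat.mod_lt _ (by norm_num)⟩, ⟨m % 3, Nat.mod_lt _ (by norm_num)⟩⟩, ?_⟩
      apply Subtype.ext
      show px x (fun i => k i % 3) * D ^ (m % 3) = px x k * D ^ m
      rw [← px_mod F, ← D_mod H]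
  rw [← Nat.card_congr (Equiv.ofBijective f hf), Nat.card_eq_fintype_card]
  simp

theorem isPGroup_S (F : Fr Q z a b x) (H : Cyc z x D) : IsPGroup 3 (S F H) :=
  IsPGroup.of_card (n := 5) (by rw [card_S]; norm_num)

theorem S_le (F : Fr Q z a b x) (H : Cyc z x D) : S F H ≤ centralizer ({z} : Set G) := by
  rintro _ ⟨k, m, rfl⟩
  rw [mem_centralizer_singleton_iff]
  have h1 : ∀ j, Commute (x j ^ k j) z := fun j => (show Commute (x j) z from F.xz j).pow_left _
  have h2 : Commute (px x k) z := (h1 0).mul_left ((h1 1).mul_left ((h1 2).mul_left (h1 3)))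
  exact (h2.mul_left ((show Commute D z from H.z).pow_left m)).eq

/-- elements of `S` with small commutator -/
theorem small_S (F : Fr Q z a b x) (H : Cyc z x D) {s : G} (hs : s ∈ S F H) (h1 : s ≠ 1)
    (h : Nat.card ↥⁅Q, zpowers s⁆ ≤ 8) : ∃ i, s = x i ∨ s = (x i)⁻¹ := by
  obtain ⟨k, m, rfl⟩ := hs
  rw [D_mod H] at h h1 ⊢
  have hm : m % 3 < 3 := Nat.mod_lt _ (by norm_num)
  generalize m % 3 = n at *
  interval_cases n
  · rw [pow_zero, mul_one] at h h1 ⊢
    exact case_px F k h1 h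
  · exfalso
    have h2 := case_cycle F (s := px x k * D ^ 1) (Or.inl ⟨conj_of (F := F) (by rw [pow_one]; exact H.h1),
      conj_of (F := F) (by rw [pow_one]; exact H.h2), conj_of (F := F) (by rw [pow_one]; exact H.h3)⟩)
    omega
  · exfalso
    have h3 := cyc_pow H
    have h2 := case_cycle F (s := px x k * D ^ 2) (Or.inr ⟨conj_of (F := F) h3.1, conj_of (F := F) h3.2.1,
      conj_of (F := F) h3.2.2⟩)
    omega

/-- the order of `[Q, s]` is invariant under conjugation by `C(z)` -/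
theorem card_comm_conj {Q : Subgroup G} {c : G} (hc : ∀ q ∈ Q, c * q * c⁻¹ ∈ Q) (s : G) :
    Nat.card ↥⁅Q, zpowers (c * s * c⁻¹)⁆ = Nat.card ↥⁅Q, zpowers s⁆ := by
  have hQ : Q.map (MulAut.conj c).toMonoidHom = Q := by
    have hle : Q.map (MulAut.conj c).toMonoidHom ≤ Q := by
      rintro _ ⟨q, hq, rfl⟩
      exact hc q hq
    exact Subgroup.eq_of_le_of_card_ge hle
      (by rw [Nat.card_congr (Q.equivMapOfInjective _ (MulAut.conj c).injective).symm.toEquiv])
  have hZ : zpowers (c * s * c⁻¹) = (zpowers s).map (MulAut.conj c).toMonoidHom := by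
    rw [MonoidHom.map_zpowers]; rfl
  conv_lhs => rw [← hQ, hZ, ← Subgroup.map_commutator]
  exact Nat.card_congr ((⁅Q, zpowers s⁆).equivMapOfInjective _ (MulAut.conj c).injective).symm.toEquiv

/-- **An element of order three of `C(z)` with `|[Q, s]| ≤ 8`.** -/
theorem main (F : Fr Q z a b x) (H : Cyc z x D) (h6 : ¬ 3 ^ 6 ∣ Nat.card (centralizer ({z} : Set G)))
    {s : G} (hs : orderOf s = 3) (hsz : s * z = z * s) (h : Nat.card ↥⁅Q, zpowers s⁆ ≤ 8) :
    ∃ c, c * z = z * c ∧ ∃ i, c * s * c⁻¹ = x i ∨ c * s * c⁻¹ = (x i)⁻¹ := by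
  have hidx : ¬ 3 ∣ (S F H).relIndex (centralizer ({z} : Set G)) := by
    intro hd
    apply h6
    have h1 : Nat.card (S F H) * (S F H).relIndex (centralizer ({z} : Set G)) =
        Nat.card (centralizer ({z} : Set G)) := by
      rw [← Subgroup.relIndex_bot_left, ← Subgroup.relIndex_bot_left]
      exact Subgroup.relIndex_mul_relIndex ⊥ _ _ bot_le (S_le F H)
    rw [card_S] at h1
    rw [← h1, show (3 : ℕ) ^ 6 = 243 * 3 by norm_num]
    exact Nat.mul_dvd_mul_left _ hd
  obtain ⟨c, hc, hcS⟩ := exists_mem Nat.prime_three (isPGroup_S F H) hidx hs (mem_centralizer_singleton_iff.2 hsz)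
  have hcz : c * z = z * c := mem_centralizer_singleton_iff.1 hc
  refine ⟨c, hcz, small_S F H hcS ?_ ?_⟩
  · intro h1
    have h2 : s = 1 := by
      have : s = c⁻¹ * (c * s * c⁻¹) * c := by group
      rw [this, h1]; group
    rw [h2, orderOf_one] at hs
    omega
  · rw [card_comm_conj (F.large.conj_mem c hcz)]
    exact h

end fin

end Cfsg.Agent.H811.FrSyl
end

-- part: H811/CoOneThree
section
/-!
# Groups isomorphic to `Co₁` with the large extraspecial hypothesis: subgroups of order three with `[Q, X]` of order 8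

The isomorphism with `Co₁` can be chosen to map `X` to `⟨X 0⟩`, `X 0 = e 1` the first element of the frame.
-/

set_option autoImplicit false
open Cfsg
open scoped Pointwise

namespace Cfsg.Agent.H811.CoOneThree

open Cfsg.Spor (Co1)
open Cfsg.Agent.SporadicA.Co0Mono
open Cfsg.Agent.CoOneType.SignFacts (wt)
open Cfsg.Agent.CoOneType.ClosingFacts (mk)
open Cfsg.Agent.LThreeCo1.FourCo1 Cfsg.Agent.LThreeCo1.Ev
open Cfsg.Agent.LThreeCo1.RelQ
open Cfsg.Agent.H811.FrSyl

theorem k777 : eqB M [7, 7, 7] [] = true := by decide +kernel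
theorem k331 : eqB M [33, 1] [2, 33] = true := by decide +kernel

theorem D_cube : D ^ 3 = 1 := by
  have h1 := rel k777
  simp only [List.map_cons, List.map_nil, List.prod_cons, List.prod_nil, mul_one] at h1
  rw [pow_succ, pow_two, mul_assoc]
  exact h1

theorem cyc : Cyc zz X D where
  z := D_z
  h0 := D_0
  h1 := D_1
  h2 := D_2
  h3 := D_3
  cube := D_cube

/-- all `X i` are conjugate -/
theorem conj_X (i : Fin 4) : ∃ g : Co1, g * X i * g⁻¹ = X 0 := by
  have h1 : pr (e 33) * X 0 = X 1 * pr (e 33) := rel22 k331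
  have e1 : (pr (e 33))⁻¹ * X 1 * (pr (e 33))⁻¹⁻¹ = X 0 := by
    calc (pr (e 33))⁻¹ * X 1 * (pr (e 33))⁻¹⁻¹ = (pr (e 33))⁻¹ * (X 1 * pr (e 33)) := by group
      _ = (pr (e 33))⁻¹ * (pr (e 33) * X 0) := by rw [h1]
      _ = X 0 := by group
  have e2 : D⁻¹ * X 2 * D⁻¹⁻¹ = X 1 := by
    calc D⁻¹ * X 2 * D⁻¹⁻¹ = D⁻¹ * (X 2 * D) := by group
      _ = D⁻¹ * (D * X 1) := by rw [D_1]
      _ = X 1 := by group
  have e3 : D * X 3 * D⁻¹ = X 1 := by rw [D_3, mul_inv_cancel_right]
  fin_cases i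
  · exact ⟨1, by show 1 * X 0 * 1⁻¹ = X 0; group⟩
  · exact ⟨_, e1⟩
  · refine ⟨(pr (e 33))⁻¹ * D⁻¹, ?_⟩
    show (pr (e 33))⁻¹ * D⁻¹ * X 2 * ((pr (e 33))⁻¹ * D⁻¹)⁻¹ = X 0
    calc (pr (e 33))⁻¹ * D⁻¹ * X 2 * ((pr (e 33))⁻¹ * D⁻¹)⁻¹ =
        (pr (e 33))⁻¹ * (D⁻¹ * X 2 * D⁻¹⁻¹) * (pr (e 33))⁻¹⁻¹ := by group
      _ = X 0 := by rw [e2, e1]
  · refine ⟨(pr (e 33))⁻¹ * D, ?_⟩
    show (pr (e 33))⁻¹ * D * X 3 * ((pr (e 33))⁻¹ * D)⁻¹ = X 0
    calc (pr (e 33))⁻¹ * D * X 3 * ((pr (e 33))⁻¹ * D)⁻¹ =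
        (pr (e 33))⁻¹ * (D * X 3 * D⁻¹) * (pr (e 33))⁻¹⁻¹ := by group
      _ = X 0 := by rw [e3, e1]

/-- the class of an involution whose centralizer has the order of that of an octad -/
theorem isConj_zz {G : Type*} [Group G] (ψ : G ≃* Co1) {z : G} (hz : orderOf z = 2)
    (hC : Nat.card (Subgroup.centralizer ({z} : Set G)) = 89181388800) : IsConj zz (ψ z) := by
  have hzz : ψ z * ψ z = 1 := by
    rw [← map_mul, ← pow_two, ← hz, pow_orderOf_eq_one, map_one]
  have hz1 : ψ z ≠ 1 := by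
    intro h
    rw [map_eq_one_iff ψ ψ.injective] at h
    rw [h, orderOf_one] at hz
    omega
  have hC' : Nat.card (Subgroup.centralizer ({ψ z} : Set Co1)) = 89181388800 := by
    rw [← hC]
    have h1 : Subgroup.centralizer ({ψ z} : Set Co1) = (Subgroup.centralizer ({z} : Set G)).map ψ.toMonoidHom := by
      ext c
      rw [Subgroup.mem_centralizer_singleton_iff, Subgroup.mem_map]
      constructor
      · intro h
        refine ⟨ψ.symm c, ?_, ψ.apply_symm_apply c⟩
        rw [Subgroup.mem_centralizer_singleton_iff]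
        apply ψ.injective
        rw [map_mul, map_mul, ψ.apply_symm_apply, h]
      · rintro ⟨d, hd, rfl⟩
        rw [Subgroup.mem_centralizer_singleton_iff] at hd
        show ψ d * ψ z = ψ z * ψ d
        rw [← map_mul, hd, map_mul]
    rw [h1]
    exact Nat.card_congr ((Subgroup.centralizer ({z} : Set G)).equivMapOfInjective ψ.toMonoidHom
      ψ.injective).symm.toEquiv
  obtain ⟨d, hd⟩ := Cfsg.Agent.CoOneType.ClosingCo1.exists_dodecad
  rcases Cfsg.Agent.CoOneType.ClosingFacts.co1_cases cw d Cfsg.Agent.CoOneType.ClosingCo1.a1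
    Cfsg.Agent.CoOneType.ClosingCo1.a1' wt_cw hd (ψ z) hzz hz1 with h | h | ⟨t, ht, h⟩
  · exact h
  · exfalso
    have h11 := Cfsg.Agent.CoOneType.ClosingFacts.isConj_dvd h (Cfsg.Agent.CoOneType.Thirteen.eleven_dvd d hd)
    rw [hC'] at h11
    revert h11; norm_num
  · exfalso
    have h13 := Cfsg.Agent.CoOneType.Thirteen.thirteen_dvd_of_conj t h
    have h14 : (13 : ℕ) ∣ Nat.card (Subgroup.centralizer ({_root_.Cfsg.Agent.CoOneType.ClosingFacts.mk t} : Set Co1)) := h13
    rw [ht, hC'] at h14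
    revert h14; norm_num

/-- the isomorphism can be chosen to map `z` to `zz` -/
theorem exists_iso {G : Type*} [Group G] (ψ : G ≃* Co1) {z : G} (hz : orderOf z = 2)
    (hC : Nat.card (Subgroup.centralizer ({z} : Set G)) = 89181388800) : ∃ ψ : G ≃* Co1, ψ z = zz := by
  obtain ⟨g, hg⟩ := isConj_iff.1 (isConj_zz ψ hz hC)
  refine ⟨ψ.trans (MulAut.conj g⁻¹), ?_⟩
  show g⁻¹ * ψ z * g⁻¹⁻¹ = zz
  rw [← hg]; group

theorem card_RCo1 : Nat.card (Cfsg.Agent.KFacts.Co1.InCo1.RCo1 cw) = 512 := four.card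

/-- the isomorphism can be chosen to map `X` to `⟨X 0⟩` (auxiliary form) -/
theorem exists_iso_aux {G : Type*} [Group G] [Finite G] (z : G) (C : Subgroup G)
    (hCdef : C = Subgroup.centralizer ({z} : Set G)) (Q : Subgroup C) [Q.Normal]
    (hF : Cfsg.generalizedFittingSubgroup C = Q) (hcard : Nat.card Q = 2 ^ 9)
    (hC : Nat.card C = 89181388800)
    (Xs : Subgroup C) (hX : Nat.card Xs = 3) (hQX : Nat.card ↥⁅Q, Xs⁆ ≤ 8) (ψ : G ≃* Co1) (hψ : ψ z = zz) :
    ∃ ψ : G ≃* Co1, (Xs.map C.subtype).map ψ.toMonoidHom = Subgroup.zpowers (X 0) := by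
  have hfin : Finite Co1 := Finite.of_equiv G ψ.toEquiv
  set RQ : Subgroup Co1 := Cfsg.Agent.KFacts.Co1.InCo1.RCo1 cw with hRQ
  set C1 : Subgroup Co1 := Subgroup.centralizer ({zz} : Set Co1) with hC1
  have hmemC : ∀ c : G, c ∈ C ↔ ψ c ∈ C1 := by
    intro c
    rw [hCdef, Subgroup.mem_centralizer_singleton_iff, hC1, Subgroup.mem_centralizer_singleton_iff, ← hψ,
      ← map_mul, ← map_mul]
    exact ψ.injective.eq_iff.symm
  have hCmap : C.map ψ.toMonoidHom = C1 := by
    ext c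
    constructor
    · rintro ⟨d, hd, rfl⟩; exact (hmemC d).1 hd
    · intro hc
      refine ⟨ψ.symm c, (hmemC _).2 ?_, ψ.apply_symm_apply c⟩
      rw [ψ.apply_symm_apply]; exact hc
  have hcC : Nat.card C1 = 89181388800 := by
    rw [← hCmap, Nat.card_congr (C.equivMapOfInjective ψ.toMonoidHom ψ.injective).symm.toEquiv, hC]
  let f : C →* Co1 := ψ.toMonoidHom.comp C.subtype
  have hfinj : Function.Injective f := ψ.injective.comp Subtype.val_injective
  have hfC : ∀ c : C, f c ∈ C1 := fun c => (hmemC c).1 c.2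
  have hnorm : ∀ c ∈ C1, ∀ q ∈ RQ, c * q * c⁻¹ ∈ RQ := fun c hc q hq =>
    four.large.conj_mem c (Subgroup.mem_centralizer_singleton_iff.1 hc) q hq
  have hRQC : ∀ q ∈ RQ, q ∈ C1 := fun q hq =>
    Subgroup.mem_centralizer_singleton_iff.2 (four.large.comm_z q hq)
  have hpR : IsPGroup 2 RQ := IsPGroup.of_card (n := 9) (by rw [card_RCo1]; norm_num)
  -- `RQ` is contained in the image of `Q`
  have hN : RQ.comap f ≤ Q := by
    have hp : IsPGroup 2 (RQ.comap f) := hpR.comap_of_injective f hfinj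
    have h2 : Fact (Nat.Prime 2) := ⟨Nat.prime_two⟩
    have hnil : Group.IsNilpotent (RQ.comap f) := hp.isNilpotent
    have hnor : (RQ.comap f).Normal := by
      constructor
      intro n hn c
      show f (c * n * c⁻¹) ∈ RQ
      rw [map_mul, map_mul, map_inv]
      exact hnorm (f c) (hfC c) (f n) hn
    have h3 : RQ.comap f ≤ Cfsg.fittingSubgroup C := le_sSup ⟨hnor, hnil⟩
    refine h3.trans ?_
    rw [← hF]; exact le_sup_right
  have hQle : RQ ≤ (Q.map C.subtype).map ψ.toMonoidHom := by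
    intro u hu
    have hu1 : ψ.symm u ∈ C := by
      rw [hmemC, ψ.apply_symm_apply]; exact hRQC u hu
    have hfu : f ⟨ψ.symm u, hu1⟩ = u := ψ.apply_symm_apply u
    have h1 : (⟨ψ.symm u, hu1⟩ : C) ∈ Q := hN (by
      show f ⟨ψ.symm u, hu1⟩ ∈ RQ
      rw [hfu]; exact hu)
    exact ⟨ψ.symm u, ⟨⟨ψ.symm u, hu1⟩, h1, rfl⟩, ψ.apply_symm_apply u⟩
  have hQeq : (Q.map C.subtype).map ψ.toMonoidHom = RQ := by
    symm
    apply Subgroup.eq_of_le_of_card_ge hQle
    rw [Subgroup.map_map, Nat.card_congr (Q.equivMapOfInjective f hfinj).symm.toEquiv, hcard, card_RCo1]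
    norm_num
  -- a generator
  have hcyc : IsCyclic Xs := isCyclic_of_prime_card (p := 3) (hp := ⟨Nat.prime_three⟩) hX
  obtain ⟨g, hg⟩ := IsCyclic.exists_generator (α := Xs)
  have hXg : Xs = Subgroup.zpowers (g : C) := by
    apply le_antisymm
    · intro y hy
      obtain ⟨k, hk⟩ := Subgroup.mem_zpowers_iff.1 (hg ⟨y, hy⟩)
      exact Subgroup.mem_zpowers_iff.2 ⟨k, by rw [← SubgroupClass.coe_zpow, hk]⟩
    · rw [Subgroup.zpowers_le]; exact g.2
  set s : Co1 := f g with hs
  have hXs : (Xs.map C.subtype).map ψ.toMonoidHom = Subgroup.zpowers s := by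
    rw [Subgroup.map_map]
    show Xs.map f = _
    rw [hXg, MonoidHom.map_zpowers]
  have hos : orderOf s = 3 := by
    rw [← Nat.card_zpowers, ← hXs, Subgroup.map_map,
      Nat.card_congr (Xs.equivMapOfInjective f hfinj).symm.toEquiv, hX]
  have hsz : s * zz = zz * s := Subgroup.mem_centralizer_singleton_iff.1 (hfC g)
  have hcomm : Nat.card ↥⁅RQ, Subgroup.zpowers s⁆ ≤ 8 := by
    rw [← hQeq, ← hXs, Subgroup.map_map, Subgroup.map_map, ← Subgroup.map_commutator,
      Nat.card_congr ((⁅Q, Xs⁆).equivMapOfInjective f hfinj).symm.toEquiv]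
    exact hQX
  obtain ⟨c, -, i, hci⟩ := FrSyl.main four cyc (by rw [← hC1, hcC]; norm_num) hos hsz hcomm
  obtain ⟨g', hg'⟩ := conj_X i
  refine ⟨ψ.trans (MulAut.conj (g' * c)), ?_⟩
  have h1 : (Xs.map C.subtype).map (ψ.trans (MulAut.conj (g' * c))).toMonoidHom =
      ((Xs.map C.subtype).map ψ.toMonoidHom).map (MulAut.conj (g' * c)).toMonoidHom := by
    rw [Subgroup.map_map (Xs.map C.subtype)]; rfl
  rw [h1, hXs, MonoidHom.map_zpowers]
  have h2 : (MulAut.conj (g' * c)).toMonoidHom s = g' * (c * s * c⁻¹) * g'⁻¹ := by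
    show g' * c * s * (g' * c)⁻¹ = _
    group
  rw [h2]
  rcases hci with hci | hci
  · rw [hci, hg']
  · rw [hci, show g' * (X i)⁻¹ * g'⁻¹ = (g' * X i * g'⁻¹)⁻¹ by group, hg', Subgroup.zpowers_inv]

/-- **The isomorphism can be chosen to map `X` to `⟨X 0⟩`.** -/
theorem exists_iso_X {G : Type*} [Group G] [Finite G] (z : G) (hz : orderOf z = 2)
    (Q : Subgroup (Subgroup.centralizer ({z} : Set G))) [Q.Normal]
    (hF : Cfsg.generalizedFittingSubgroup (Subgroup.centralizer ({z} : Set G)) = Q)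
    (hcard : Nat.card Q = 2 ^ 9)
    (e : (Subgroup.centralizer ({z} : Set G)) ⧸ Q ≃* Cfsg.Omega (ZMod 2) (Cfsg.quadFormPlus 4 (ZMod 2)))
    (Xs : Subgroup (Subgroup.centralizer ({z} : Set G))) (hX : Nat.card Xs = 3)
    (hQX : Nat.card ↥⁅Q, Xs⁆ = 8) (hG : Cfsg.Spor.IsoCo1 G) :
    ∃ ψ : G ≃* Co1, (Xs.map (Subgroup.centralizer ({z} : Set G)).subtype).map ψ.toMonoidHom =
      Subgroup.zpowers (X 0) := by
  have hC : Nat.card (Subgroup.centralizer ({z} : Set G)) = 89181388800 := by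
    rw [Subgroup.card_eq_card_quotient_mul_card_subgroup Q, hcard, Nat.card_congr e.toEquiv,
      Cfsg.Agent.LargeExtra.Cards.card_omega_plus_eight]
    norm_num
  obtain ⟨ψ₀⟩ := hG
  obtain ⟨ψ, hψ⟩ := exists_iso ψ₀ hz hC
  exact exists_iso_aux z _ rfl Q hF hcard hC Xs hX hQX.le ψ hψ

end Cfsg.Agent.H811.CoOneThree
end
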