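import Cfsg.Agent.LThreeMB.Quo
import Cfsg.Agent.CpAutSuz.Local
import Cfsg.Agent.H573.Spor.Suz
import Cfsg.Agent.LThreeCo1Twelve.Ord
import Cfsg.Agent.H811.CoOneThree
import Cfsg.Agent.H813.SuzQuot
import Cfsg.Agent.LThreeMB.NegRoot
import Cfsg.Agent.LThreeMB.CTwelveFix
import Cfsg.Agent.S1759
import Cfsg.Agent.S1619
import Cfsg.Agent.S1625
import Cfsg.Agent.S0280
import Cfsg.Agent.S0243
import Cfsg.Agent.S1059
import Cfsg.Agent.MTwelveType.SylowModel
import Cfsg.Agent.FastGrp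
import Cfsg.Agent.Prune
set_option linter.all false
prune_inst 0x7f00000000000000000000000000000000000000000000000000000000000000000000000000000000000000000000000000000000000000000000000000000000000000000000000000000000000000003fffffffffffffffffffffffffffbeffbdffffffff
open scoped Cfsg.Agent.FastGrp

-- part: H811/CovLem
section
/-!
# Centralizers in `C(x) / ⟨x⟩` (helper811)

`Cov P u` : `C(u) / ⟨u⟩ ≅ P`.  `cov_of` : `Cov P ȳ` in `C(x) / ⟨x⟩` from an isomorphism `C(x, y) / ⟨x, y⟩ ≅ P`, if no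
element of `C(x)` moves `y` inside `y ⟨x⟩`.
-/

set_option autoImplicit false

namespace Cfsg.Agent.H811.CovLem

open Subgroup Cfsg
open Cfsg.Agent.LThreeMB (XX Zx mk exists_mk mk_eq_one mk_eq_mk exists_fac)

/-- `C(u) / ⟨u⟩ ≅ P` -/
def Cov (P : Type*) [Group P] {G : Type*} [Group G] (u : G) : Prop :=
  ∃ g : ↥(centralizer ({u} : Set G)) →* P, Function.Surjective g ∧ ∀ c, g c = 1 ↔ (c : G) ∈ zpowers u

variable {P G G' : Type*} [Group P] [Group G] [Group G']

/-- the centralizers of corresponding elements -/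
def centEquiv (α : G ≃* G') (u : G) : ↥(centralizer ({u} : Set G)) ≃* ↥(centralizer ({α u} : Set G')) where
  toFun c := ⟨α c, mem_centralizer_singleton_iff.2 (by
    rw [← map_mul, ← map_mul, mem_centralizer_singleton_iff.1 c.2])⟩
  invFun c := ⟨α.symm c, mem_centralizer_singleton_iff.2 (by
    have h := congrArg α.symm (mem_centralizer_singleton_iff.1 c.2)
    rwa [map_mul, map_mul, MulEquiv.symm_apply_apply] at h)⟩
  left_inv c := Subtype.ext (α.symm_apply_apply _)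
  right_inv c := Subtype.ext (α.apply_symm_apply _)
  map_mul' a b := Subtype.ext (map_mul α _ _)

theorem Cov.map {u : G} (h : Cov P u) (α : G ≃* G') : Cov P (α u) := by
  obtain ⟨g, hs, hk⟩ := h
  refine ⟨g.comp (centEquiv α u).symm.toMonoidHom, hs.comp (centEquiv α u).symm.surjective, fun c => ?_⟩
  show g ((centEquiv α u).symm c) = 1 ↔ _
  rw [hk]
  obtain ⟨c, rfl⟩ := (centEquiv α u).surjective c
  rw [MulEquiv.symm_apply_apply]
  show (c : G) ∈ zpowers u ↔ α (c : G) ∈ zpowers (α u)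
  rw [mem_zpowers_iff, mem_zpowers_iff]
  constructor
  · rintro ⟨k, hk⟩
    exact ⟨k, by rw [← hk, map_zpow]⟩
  · rintro ⟨k, hk⟩
    refine ⟨k, α.injective ?_⟩
    rw [← hk, map_zpow]

theorem Cov.comp {P' : Type*} [Group P'] {u : G} (h : Cov P u) (α : P ≃* P') : Cov P' u := by
  obtain ⟨g, hs, hk⟩ := h
  refine ⟨α.toMonoidHom.comp g, α.surjective.comp hs, fun c => ?_⟩
  rw [← hk]
  show α (g c) = 1 ↔ _
  rw [map_eq_one_iff α α.injective]

theorem mem_cl {x y c : G} (hxy : y * x = x * y) : c ∈ closure {x, y} ↔ ∃ i j : ℤ, y ^ j * x ^ i = c := by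
  have hc : Commute y x := hxy
  rw [closure_insert, closure_singleton_aux, mem_sup_of_comm hc]
where
  closure_insert : closure {x, y} = zpowers x ⊔ zpowers y := by
    rw [Set.insert_eq, Subgroup.closure_union, zpowers_eq_closure, zpowers_eq_closure]
  closure_singleton_aux : (zpowers x ⊔ zpowers y : Subgroup G) = zpowers x ⊔ zpowers y := rfl
  mem_sup_of_comm (hc : Commute y x) : (c ∈ zpowers x ⊔ zpowers y) = ∃ i j : ℤ, y ^ j * x ^ i = c := by
    apply propext
    constructor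
    · intro h
      have hn : ∀ g ∈ zpowers x ⊔ zpowers y, ∃ i j : ℤ, y ^ j * x ^ i = g := by
        intro g hg
        rw [← closure_insert] at hg
        induction hg using Subgroup.closure_induction with
        | mem z hz =>
          rcases hz with rfl | hz
          · exact ⟨1, 0, by simp⟩
          · rw [Set.mem_singleton_iff.1 hz]; exact ⟨0, 1, by simp⟩
        | one => exact ⟨0, 0, by simp⟩
        | mul a b _ _ ha hb =>
          obtain ⟨i, j, rfl⟩ := ha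
          obtain ⟨k, l, rfl⟩ := hb
          refine ⟨i + k, j + l, ?_⟩
          have h1 := (hc.zpow_zpow l i).eq
          calc y ^ (j + l) * x ^ (i + k) = y ^ j * (y ^ l * x ^ i) * x ^ k := by rw [zpow_add, zpow_add]; group
            _ = y ^ j * (x ^ i * y ^ l) * x ^ k := by rw [h1]
            _ = y ^ j * x ^ i * (y ^ l * x ^ k) := by group
        | inv a _ ha =>
          obtain ⟨i, j, rfl⟩ := ha
          refine ⟨-i, -j, ?_⟩
          rw [mul_inv_rev, ← zpow_neg, ← zpow_neg]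
          exact (hc.zpow_zpow (-j) (-i)).eq
      exact hn c h
    · rintro ⟨i, j, rfl⟩
      exact mul_mem ((le_sup_right : zpowers y ≤ _) (zpow_mem (mem_zpowers y) j))
        ((le_sup_left : zpowers x ≤ _) (zpow_mem (mem_zpowers x) i))

theorem mk_zpow {x g : G} (hg : g * x = x * g) (n : ℤ) (hn : g ^ n * x = x * g ^ n) : (mk x hg) ^ n = mk x hn := rfl

theorem mem_pair {x y k : G} : k ∈ centralizer ({x, y} : Set G) ↔ k * x = x * k ∧ k * y = y * k := by
  rw [Subgroup.mem_centralizer_iff]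
  constructor
  · intro h
    exact ⟨(h _ (Or.inl rfl)).symm, (h _ (Or.inr rfl)).symm⟩
  · rintro ⟨h1, h2⟩ z hz
    rcases hz with rfl | hz
    · exact h1.symm
    · rw [Set.mem_singleton_iff.1 hz]; exact h2.symm

/-- **`C(ȳ) / ⟨ȳ⟩` in `C(x) / ⟨x⟩`.** -/
theorem cov_of {x y : G} (hxy : y * x = x * y)
    (hf : ∀ c : G, c * x = x * c → (∃ i : ℤ, c * y * x ^ i = y * c) → c * y = y * c)
    (β : ↥(centralizer ({x, y} : Set G)) →* P) (hβ : Function.Surjective β)
    (hk : ∀ c, β c = 1 ↔ (c : G) ∈ closure {x, y}) : Cov P (mk x hxy : XX x) := by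
  have hcm : ∀ c : ↥(centralizer ({x, y} : Set G)), (c : G) * x = x * c := fun c => (mem_pair.1 c.2).1
  have hcy : ∀ c : ↥(centralizer ({x, y} : Set G)), (c : G) * y = y * c := fun c => (mem_pair.1 c.2).2
  have hmem : ∀ c : ↥(centralizer ({x, y} : Set G)), mk x (hcm c) ∈ centralizer ({mk x hxy} : Set (XX x)) := by
    intro c
    rw [mem_centralizer_singleton_iff]
    have h1 : ((c : G) * y) * x = x * ((c : G) * y) := by rw [mul_assoc, hxy, ← mul_assoc, hcm c, mul_assoc]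
    have h2 : (y * (c : G)) * x = x * (y * (c : G)) := by rw [← hcy c]; exact h1
    exact LThreeMB.mk_congr h1 h2 (hcy c)
  let α : ↥(centralizer ({x, y} : Set G)) →* ↥(centralizer ({mk x hxy} : Set (XX x))) :=
    { toFun := fun c => ⟨mk x (hcm c), hmem c⟩
      map_one' := Subtype.ext rfl
      map_mul' := fun a b => Subtype.ext rfl }
  have hα : Function.Surjective α := by
    rintro ⟨u, hu⟩
    obtain ⟨g, hg, rfl⟩ := exists_mk u
    rw [mem_centralizer_singleton_iff] at hu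
    have h1 : (g * y) * x = x * (g * y) := by rw [mul_assoc, hxy, ← mul_assoc, hg, mul_assoc]
    have h2 : (y * g) * x = x * (y * g) := by rw [mul_assoc, hg, ← mul_assoc, hxy, mul_assoc]
    have h3 : mk x h1 = mk x h2 := hu
    have h4 := hf g hg ((mk_eq_mk h1 h2).1 h3)
    exact ⟨⟨g, mem_pair.2 ⟨hg, h4⟩⟩, rfl⟩
  have hα1 : ∀ c, α c = 1 ↔ ∃ i : ℤ, x ^ i = (c : G) := by
    intro c
    rw [← mk_eq_one (hcm c)]
    exact Subtype.ext_iff
  have hky : ∀ c, α c = 1 → β c = 1 := by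
    intro c hc
    rw [hk, mem_cl hxy]
    obtain ⟨i, hi⟩ := (hα1 c).1 hc
    exact ⟨i, 0, by rw [zpow_zero, one_mul, hi]⟩
  obtain ⟨ρ, hρ⟩ := exists_fac α hα β hky
  refine ⟨ρ, fun p => ?_, fun u => ?_⟩
  · obtain ⟨c, hc⟩ := hβ p
    exact ⟨α c, by rw [hρ, hc]⟩
  · obtain ⟨c, rfl⟩ := hα u
    rw [hρ, hk, mem_cl hxy, mem_zpowers_iff]
    have hyn : ∀ j : ℤ, y ^ j * x = x * y ^ j := fun j => ((show Commute y x from hxy).zpow_left j).eq
    constructor
    · rintro ⟨i, j, hij⟩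
      refine ⟨j, ?_⟩
      show (mk x hxy) ^ j = mk x (hcm c)
      rw [mk_zpow hxy j (hyn j), mk_eq_mk]
      exact ⟨i, hij⟩
    · rintro ⟨j, hj⟩
      have hj' : (mk x hxy) ^ j = mk x (hcm c) := hj
      rw [mk_zpow hxy j (hyn j), mk_eq_mk] at hj'
      obtain ⟨i, hi⟩ := hj'
      exact ⟨i, j, hi⟩

end Cfsg.Agent.H811.CovLem
end

-- part: H811/SuzYZero
section
/-!
# The class 3A of the Suzuki group (helper811)

* `conj_y0` : an element of order 3 commuting with an involution, 7 dividing the order of its centralizer, is conjugate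
  to `y0`;
* `inv_y0` : `d` inverts `y0`;
* `mem_comm` : `y0` lies in the commutator subgroup of its centralizer.
-/

set_option autoImplicit false
set_option maxRecDepth 100000

namespace Cfsg.Agent.H811.SuzYZero

open Subgroup Cfsg
open Cfsg.Spor (Suz)
open Cfsg.Agent.Lib.PermNet Cfsg.Agent.Lib.PermNetOrbit Cfsg.Agent.SporadicRecognition.SuzPhi
  Cfsg.Agent.SporadicRecognition.SuzBound Cfsg.Agent.SporadicRecognition.SuzOrder
  Cfsg.Agent.SuzThree.Nets Cfsg.Agent.SuzThree.Basic Cfsg.Agent.SuzThree.Elts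
open Cfsg.Agent.SuzThree.CentA (z0)
open Cfsg.Agent.SuzThree.ThreeWr
open Cfsg.Agent.KFacts.SuzLFour (e0)
open Cfsg.Agent.CpAutSuz.Classes

theorem orderOf_conj' {G : Type*} [Group G] (g x : G) : orderOf (g⁻¹ * x * g) = orderOf x := by
  have h := orderOf_conj g⁻¹ x
  rwa [inv_inv] at h

/-- **Elements of order 3 of class 3A.** -/
theorem conj_y0 {s t : Suz} (hs : orderOf s = 3) (ht : orderOf t = 2) (hst : s * t = t * s)
    (h7 : 7 ∣ Nat.card (centralizer ({s} : Set Suz))) : ∃ g : Suz, g * s * g⁻¹ = y0 := by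
  rcases exists_conj_inv ht with ⟨g, hg⟩ | ⟨g, hg⟩
  · have h1 : (g⁻¹ * s * g) * z0 = z0 * (g⁻¹ * s * g) := by
      have h2 : z0 = g⁻¹ * t * g := by rw [← hg]; group
      rw [h2]
      calc g⁻¹ * s * g * (g⁻¹ * t * g) = g⁻¹ * (s * t) * g := by group
        _ = g⁻¹ * (t * s) * g := by rw [hst]
        _ = g⁻¹ * t * g * (g⁻¹ * s * g) := by group
    have h3 : orderOf (g⁻¹ * s * g) = 3 := by rw [orderOf_conj', hs]
    rcases conj_of_z0 h3 h1 with ⟨k, hk⟩ | ⟨k, hk⟩
    · exact ⟨k * g⁻¹, by rw [← hk]; group⟩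
    · exfalso
      have h4 : (k * g⁻¹) * s * (k * g⁻¹)⁻¹ = z1 := by rw [← hk]; group
      have h5 := CpAut.SporThree.Cent.card_centralizer_conj (k * g⁻¹) s
      rw [h4] at h5
      apply Cfsg.Agent.CpAutSuz.Local.z1_7
      rw [h5]
      exact h7
  · exfalso
    have h1 : (g⁻¹ * s * g) * e0 = e0 * (g⁻¹ * s * g) := by
      have h2 : e0 = g⁻¹ * t * g := by rw [← hg]; group
      rw [h2]
      calc g⁻¹ * s * g * (g⁻¹ * t * g) = g⁻¹ * (s * t) * g := by group
        _ = g⁻¹ * (t * s) * g := by rw [hst]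
        _ = g⁻¹ * t * g * (g⁻¹ * s * g) := by group
    have h3 : orderOf (g⁻¹ * s * g) = 3 := by rw [orderOf_conj', hs]
    have h4 := Cfsg.Agent.CpAutSuz.ThreeC.card_of_comm h3 h1
    have h5 := CpAut.SporThree.Cent.card_centralizer_conj g⁻¹ s
    rw [inv_inv, h4] at h5
    rw [← h5] at h7
    norm_num at h7

/-- **`d` inverts `y0`.** -/
theorem inv_y0 : el [.d] * y0 * (el [.d])⁻¹ = y0⁻¹ := by
  have h1 : el [.d] * y0 * (el [.d] * y0) = 1 := eq_of_reps
    (((Rep.el [.d]).mul rep_y0).mul ((Rep.el [.d]).mul rep_y0)) Rep.one (by decide +kernel)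
  have h2 : el [.d] * el [.d] = 1 := eq_of_reps ((Rep.el [.d]).mul (Rep.el [.d])) Rep.one (by decide +kernel)
  have h3 : (el [.d])⁻¹ = (el [.d] : Suz) := (eq_inv_of_mul_eq_one_left h2).symm
  rw [h3]
  exact eq_inv_of_mul_eq_one_left (by rw [← h1]; group)

/-- the letters of the centralizer -/
def ls : List (List Suz.Gen) := [[.a], [.b], [.c], [.d, .c, .d]]

theorem comm_chk : ∀ u ∈ ls, checkEq 11 (wd u ++ [x0N]) ([x0N] ++ wd u) = true := by decide +kernel

theorem comm_ls {u : List Suz.Gen} (hu : u ∈ ls) : el u * y0 = y0 * el u :=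
  eq_of_reps ((Rep.el u).mul rep_y0) (rep_y0.mul (Rep.el u)) (comm_chk u hu)

/-- a letter -/
noncomputable def lt (u : List Suz.Gen) (hu : u ∈ ls) : ↥(centralizer ({y0} : Set Suz)) :=
  ⟨el u, mem_centralizer_singleton_iff.2 (comm_ls hu)⟩

noncomputable abbrev la : ↥(centralizer ({y0} : Set Suz)) := lt [.a] (by decide)
noncomputable abbrev lb : ↥(centralizer ({y0} : Set Suz)) := lt [.b] (by decide)
noncomputable abbrev lc : ↥(centralizer ({y0} : Set Suz)) := lt [.c] (by decide)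
noncomputable abbrev ld : ↥(centralizer ({y0} : Set Suz)) := lt [.d, .c, .d] (by decide)

theorem w_eq : y0 = el [.d, .c, .d] * (el [.b] * (el [.c] * (el [.d, .c, .d] * (el [.b] * (el [.a] * (el [.b] *
    (el [.d, .c, .d] * (el [.a] * (el [.b] * (el [.c] * (el [.b] * (el [.a] * (el [.b] * el [.a]))))))))))))) := by
  have h : checkEq 11 [x0N] (wd [.d, .c, .d] ++ (wd [.b] ++ (wd [.c] ++ (wd [.d, .c, .d] ++ (wd [.b] ++ (wd [.a] ++
    (wd [.b] ++ (wd [.d, .c, .d] ++ (wd [.a] ++ (wd [.b] ++ (wd [.c] ++ (wd [.b] ++ (wd [.a] ++ (wd [.b] ++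
      wd [.a])))))))))))))) = true := by decide +kernel
  exact eq_of_reps rep_y0 ((Rep.el _).mul ((Rep.el _).mul ((Rep.el _).mul ((Rep.el _).mul ((Rep.el _).mul
    ((Rep.el _).mul ((Rep.el _).mul ((Rep.el _).mul ((Rep.el _).mul ((Rep.el _).mul ((Rep.el _).mul ((Rep.el _).mul
    ((Rep.el _).mul ((Rep.el _).mul (Rep.el _))))))))))))))) h

/-- a relation between the letters -/
theorem rel_chk : checkEq 11 (wd [.a] ++ wd [.a]) [] = true ∧ checkEq 11 (wd [.b] ++ wd [.b]) [] = true ∧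
    checkEq 11 (wd [.c] ++ wd [.c]) [] = true ∧ checkEq 11 (wd [.d, .c, .d] ++ wd [.d, .c, .d]) [] = true ∧
    checkEq 11 (wd [.b] ++ (wd [.c] ++ wd [.b])) (wd [.c] ++ (wd [.b] ++ wd [.c])) = true ∧
    checkEq 11 (wd [.b] ++ (wd [.d, .c, .d] ++ wd [.b])) (wd [.d, .c, .d] ++ (wd [.b] ++ wd [.d, .c, .d])) = true ∧
    checkEq 11 (wd [.a] ++ (wd [.b] ++ (wd [.a] ++ (wd [.b] ++ wd [.a]))))
      (wd [.b] ++ (wd [.a] ++ (wd [.b] ++ (wd [.a] ++ wd [.b])))) = true ∧
    checkEq 11 (wd [.a]) (wd [.c] ++ (wd [.d, .c, .d] ++ (wd [.c] ++ wd [.d, .c, .d]))) = true := by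
  refine ⟨?_, ?_, ?_, ?_, ?_, ?_, ?_, ?_⟩ <;> decide +kernel

/-- commutative groups satisfying the relations -/
theorem all_one {A : Type*} [CommGroup A] {a b c d : A} (_ : a * a = 1) (h2 : b * b = 1) (h3 : c * c = 1)
    (h4 : d * d = 1) (h5 : b * (c * b) = c * (b * c)) (h6 : b * (d * b) = d * (b * d))
    (h7 : a * (b * (a * (b * a))) = b * (a * (b * (a * b)))) (h8 : a = c * (d * (c * d))) :
    a = 1 ∧ b = 1 ∧ c = 1 ∧ d = 1 := by
  have e1 : b = c := by
    have : b * (c * b) = (b * b) * c := by rw [mul_comm c b, mul_assoc]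
    have h : c * (b * c) = (c * c) * b := by rw [mul_comm b c, mul_assoc]
    rw [this, h, h2, h3, one_mul, one_mul] at h5
    exact h5.symm
  have e2 : b = d := by
    have : b * (d * b) = (b * b) * d := by rw [mul_comm d b, mul_assoc]
    have h : d * (b * d) = (d * d) * b := by rw [mul_comm b d, mul_assoc]
    rw [this, h, h2, h4, one_mul, one_mul] at h6
    exact h6.symm
  have e3 : a = 1 := by
    rw [h8, ← e2, ← e1]
    calc b * (b * (b * b)) = (b * b) * (b * b) := by rw [mul_assoc]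
      _ = 1 := by rw [h2, one_mul]
  have e4 : b = 1 := by
    rw [e3] at h7
    simp only [one_mul, mul_one] at h7
    have h : b * b = b * (b * b) := h7
    rw [h2, mul_one] at h
    exact h.symm
  exact ⟨e3, e4, e1 ▸ e4, e2 ▸ e4⟩

/-- the letters lie in the commutator subgroup -/
theorem letters_one : Abelianization.of la = 1 ∧ Abelianization.of lb = 1 ∧ Abelianization.of lc = 1 ∧
    Abelianization.of ld = 1 := by
  obtain ⟨k1, k2, k3, k4, k5, k6, k7, k8⟩ := rel_chk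
  have r (u : List Suz.Gen) : Rep (el u) (wd u) := Rep.el u
  have h1 : la * la = 1 := Subtype.ext (eq_of_reps ((r _).mul (r _)) Rep.one k1)
  have h2 : lb * lb = 1 := Subtype.ext (eq_of_reps ((r _).mul (r _)) Rep.one k2)
  have h3 : lc * lc = 1 := Subtype.ext (eq_of_reps ((r _).mul (r _)) Rep.one k3)
  have h4 : ld * ld = 1 := Subtype.ext (eq_of_reps ((r _).mul (r _)) Rep.one k4)
  have h5 : lb * (lc * lb) = lc * (lb * lc) :=
    Subtype.ext (eq_of_reps ((r _).mul ((r _).mul (r _))) ((r _).mul ((r _).mul (r _))) k5)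
  have h6 : lb * (ld * lb) = ld * (lb * ld) :=
    Subtype.ext (eq_of_reps ((r _).mul ((r _).mul (r _))) ((r _).mul ((r _).mul (r _))) k6)
  have h7 : la * (lb * (la * (lb * la))) = lb * (la * (lb * (la * lb))) :=
    Subtype.ext (eq_of_reps ((r _).mul ((r _).mul ((r _).mul ((r _).mul (r _)))))
      ((r _).mul ((r _).mul ((r _).mul ((r _).mul (r _))))) k7)
  have h8 : la = lc * (ld * (lc * ld)) :=
    Subtype.ext (eq_of_reps (r _) ((r _).mul ((r _).mul ((r _).mul (r _)))) k8)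
  refine all_one ?_ ?_ ?_ ?_ ?_ ?_ ?_ ?_
  · rw [← map_mul, h1, map_one]
  · rw [← map_mul, h2, map_one]
  · rw [← map_mul, h3, map_one]
  · rw [← map_mul, h4, map_one]
  · rw [← map_mul, ← map_mul, h5, map_mul, map_mul]
  · rw [← map_mul, ← map_mul, h6, map_mul, map_mul]
  · rw [← map_mul, ← map_mul, ← map_mul, ← map_mul, h7, map_mul, map_mul, map_mul, map_mul]
  · rw [← map_mul, ← map_mul, ← map_mul, ← h8]

/-- **`y0` lies in the commutator subgroup of its centralizer.** -/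
theorem mem_comm : (⟨y0, mem_centralizer_singleton_iff.2 rfl⟩ : ↥(centralizer ({y0} : Set Suz))) ∈
    commutator ↥(centralizer ({y0} : Set Suz)) := by
  obtain ⟨e1, e2, e3, e4⟩ := letters_one
  rw [← Abelianization.ker_of, MonoidHom.mem_ker]
  have h : (⟨y0, mem_centralizer_singleton_iff.2 rfl⟩ : ↥(centralizer ({y0} : Set Suz))) =
      ld * (lb * (lc * (ld * (lb * (la * (lb * (ld * (la * (lb * (lc * (lb * (la * (lb * la))))))))))))) :=
    Subtype.ext w_eq
  rw [h]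
  simp only [map_mul, e1, e2, e3, e4, mul_one]

end Cfsg.Agent.H811.SuzYZero
end

-- part: H811/SuzCov
section
/-!
# `C(y0) / ⟨y0⟩ ≅ H` in the Suzuki group (helper811)

In `Co₁`, `C(X 0) / ⟨X 0⟩ ≅ Suz` and `H = C(X 0, X 1) / ⟨X 0, X 1⟩ ≅ PSU₄(3)` (`PsuH.psu`).
-/

set_option autoImplicit false

namespace Cfsg.Agent.H811.SuzCov

open Subgroup Cfsg
open Cfsg.Spor (Suz Co1)
open Cfsg.Agent.LThreeMB (XX Zx mk exists_mk mk_eq_one mk_eq_mk fr fr_conj)
open Cfsg.Agent.LThreeCo1.FourCo1 (pr X zz rel22 rel rel23 four zz_mem_two)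
open Cfsg.Agent.LThreeCo1.Ev Cfsg.Agent.LThreeCo1.RelQ
open Cfsg.Agent.H811.CovLem

theorem k321 : eqB M [32, 1] [1, 32] = true := by decide +kernel
theorem k322 : eqB M [32, 2, 2] [2, 32] = true := by decide +kernel

/-- fixes `X 0` and inverts `X 1` -/
noncomputable def u : Co1 := pr (e 32)

theorem u0 : u * X 0 = X 0 * u := rel22 k321

theorem X1_inv : (X 1)⁻¹ = X 1 * X 1 := by
  have h : X 1 * (X 1 * X 1) = 1 := by
    rw [← four.x3 1, pow_succ, pow_two, mul_assoc]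
  exact inv_eq_of_mul_eq_one_right h

theorem u1 : u * (X 1)⁻¹ = X 1 * u := by
  have h1 := rel k322
  simp only [List.map_cons, List.map_nil, List.prod_cons, List.prod_nil, mul_one] at h1
  rw [X1_inv]
  exact h1

theorem fr0 : fr (X 0) = 1 := LThreeMB.NegRoot.fr_one

theorem fr1 : fr (X 1) = 1 := by
  obtain ⟨g, hg⟩ := H811.CoOneThree.conj_X 1
  rw [← fr_conj g, hg, fr0]

theorem fr_s : fr (X 0 * (X 1)⁻¹) = 2 ^ 12 := LThreeMB.CTwelveFix.fr_g12

/-- the class of `X 1` -/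
theorem not_conj (c : Co1) : c * X 1 * c⁻¹ ≠ X 0 * (X 1)⁻¹ := by
  intro h
  have h1 := fr_conj c (X 1)
  rw [h, fr_s, fr1] at h1
  norm_num at h1

theorem cX : X 1 * X 0 = X 0 * X 1 := four.xx 1 0

/-- elements of `C(X 0)` do not move `X 1` inside `X 1 ⟨X 0⟩` -/
theorem nofus (c : Co1) (hc : c * X 0 = X 0 * c) (h : ∃ i : ℤ, c * X 1 * X 0 ^ i = X 1 * c) : c * X 1 = X 1 * c := by
  obtain ⟨i, hi⟩ := h
  have x3 : X 0 ^ (3 : ℤ) = 1 := by
    have := four.x3 0
    exact_mod_cast this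
  have hc' : Commute c (X 0) := hc
  have hx' : Commute (X 1) (X 0) := cX
  have hmod : X 0 ^ i = X 0 ^ (i % 3) := by
    conv_lhs => rw [← Int.emod_add_mul_ediv i 3]
    rw [zpow_add, zpow_mul, x3, one_zpow, mul_one]
  have hr : i % 3 = 0 ∨ i % 3 = 1 ∨ i % 3 = 2 := by omega
  rcases hr with hr | hr | hr
  · rw [hmod, hr, zpow_zero, mul_one] at hi
    exact hi
  · exfalso
    rw [hmod, hr, zpow_one] at hi
    -- `c X1 c⁻¹ = X1 X0⁻¹`
    have h1 : c * X 1 * c⁻¹ = X 1 * (X 0)⁻¹ := by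
      calc c * X 1 * c⁻¹ = (c * X 1 * X 0) * (X 0)⁻¹ * c⁻¹ := by group
        _ = X 1 * (c * (X 0)⁻¹) * c⁻¹ := by rw [hi]; group
        _ = X 1 * ((X 0)⁻¹ * c) * c⁻¹ := by rw [hc'.inv_right.eq]
        _ = X 1 * (X 0)⁻¹ := by group
    have h2 : (X 1)⁻¹ = u⁻¹ * X 1 * u := by rw [mul_assoc, ← u1]; group
    apply not_conj (c * u⁻¹)
    calc c * u⁻¹ * X 1 * (c * u⁻¹)⁻¹ = c * (u⁻¹ * X 1 * u) * c⁻¹ := by group
      _ = c * (X 1)⁻¹ * c⁻¹ := by rw [← h2]
      _ = (c * X 1 * c⁻¹)⁻¹ := by group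
      _ = X 0 * (X 1)⁻¹ := by rw [h1]; group
  · exfalso
    rw [hmod, hr] at hi
    have hi2 : X 0 ^ (2 : ℤ) = (X 0)⁻¹ := by
      rw [eq_inv_iff_mul_eq_one, ← zpow_add_one]; exact x3
    rw [hi2] at hi
    have h1 : c * X 1 * c⁻¹ = X 1 * X 0 := by
      calc c * X 1 * c⁻¹ = (c * X 1 * (X 0)⁻¹) * X 0 * c⁻¹ := by group
        _ = X 1 * (c * X 0) * c⁻¹ := by rw [hi]; group
        _ = X 1 * (X 0 * c) * c⁻¹ := by rw [hc]
        _ = X 1 * X 0 := by group
    have h2 : u * X 1 * u⁻¹ = (X 1)⁻¹ := by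
      have h3 : u * (X 1)⁻¹ * u⁻¹ = X 1 := by rw [u1]; group
      calc u * X 1 * u⁻¹ = (u * (X 1)⁻¹ * u⁻¹)⁻¹ := by group
        _ = (X 1)⁻¹ := by rw [h3]
    apply not_conj (u * c)
    calc u * c * X 1 * (u * c)⁻¹ = u * (c * X 1 * c⁻¹) * u⁻¹ := by group
      _ = u * (X 1 * X 0) * u⁻¹ := by rw [h1]
      _ = (u * X 1 * u⁻¹) * (u * X 0) * u⁻¹ := by group
      _ = (X 1)⁻¹ * (X 0 * u) * u⁻¹ := by rw [h2, u0]
      _ = (X 1)⁻¹ * X 0 := by group
      _ = X 0 * (X 1)⁻¹ := hx'.inv_left.eq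

/-- **The class 3A of `Suz`.** -/
theorem cov : Cov LThreeCo1Twelve.Gam.H (Cfsg.Agent.SuzThree.ThreeWr.y0 : Suz) := by
  have h1 : Cov LThreeCo1Twelve.Gam.H (mk (X 0) cX : XX (X 0)) :=
    cov_of cX nofus (QuotientGroup.mk' LThreeCo1Twelve.Gam.EE) (QuotientGroup.mk'_surjective _) fun c => by
      show (QuotientGroup.mk c : LThreeCo1Twelve.Gam.H) = 1 ↔ _
      rw [QuotientGroup.eq_one_iff, Subgroup.mem_subgroupOf]
  obtain ⟨f⟩ := LThreeCo1Suz.Main.isoSuz (s := X 0) rfl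
  have h2 := h1.map f
  have hprime3 : Fact (Nat.Prime 3) := ⟨Nat.prime_three⟩
  have hprime2 : Fact (Nat.Prime 2) := ⟨Nat.prime_two⟩
  have hzX : zz * X 0 = X 0 * zz := (four.xz 0).symm
  have hne1 : (mk (X 0) cX : XX (X 0)) ≠ 1 := by
    intro h
    obtain ⟨i, hi⟩ := (mk_eq_one cX).1 h
    have h3 := four.xa 1
    have h4 : Commute (X 0) (Cfsg.Agent.LThreeCo1.FourCo1.A 1) := four.xa' 0 1 (by decide)
    have h5 := (h4.zpow_left i).eq
    rw [hi, h3] at h5
    exact Cfsg.Agent.H811.FrSyl.a_ne_b four 1 (mul_right_cancel h5).symm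
  have hne2 : (mk (X 0) hzX : XX (X 0)) ≠ 1 := by
    intro h
    obtain ⟨i, hi⟩ := (mk_eq_one hzX).1 h
    have h3 : zz ^ 3 = 1 := by
      rw [← hi, ← zpow_natCast, zpow_comm, zpow_natCast, four.x3 0, one_zpow]
    have h4 : zz * zz = 1 := four.large.z_sq
    apply four.large.z_ne
    rw [← h3, pow_succ, pow_two, h4, one_mul]
  have ho3 : orderOf (mk (X 0) cX : XX (X 0)) = 3 := by
    refine orderOf_eq_prime ?_ hne1
    have h3 : (mk (X 0) cX : XX (X 0)) ^ 3 = mk (X 0) (g := X 1 ^ 3) (by rw [four.x3 1, one_mul, mul_one]) := rfl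
    rw [h3, LThreeMB.mk_congr _ (by rw [one_mul, mul_one]) (four.x3 1)]
    exact LThreeMB.mk_one _
  have ho2 : orderOf (mk (X 0) hzX : XX (X 0)) = 2 := by
    refine orderOf_eq_prime ?_ hne2
    have hz2 : zz ^ 2 = 1 := by rw [pow_two]; exact four.large.z_sq
    have h3 : (mk (X 0) hzX : XX (X 0)) ^ 2 = mk (X 0) (g := zz ^ 2) (by rw [hz2, one_mul, mul_one]) := rfl
    rw [h3, LThreeMB.mk_congr _ (by rw [one_mul, mul_one]) hz2]
    exact LThreeMB.mk_one _
  have hcomm : (mk (X 0) cX : XX (X 0)) * mk (X 0) hzX = mk (X 0) hzX * mk (X 0) cX := by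
    have h3 : X 1 * zz = zz * X 1 := four.xz 1
    have k1 : (X 1 * zz) * X 0 = X 0 * (X 1 * zz) := by rw [mul_assoc, hzX, ← mul_assoc, cX, mul_assoc]
    have k2 : (zz * X 1) * X 0 = X 0 * (zz * X 1) := by rw [← h3]; exact k1
    exact LThreeMB.mk_congr k1 k2 h3
  -- the element of `Suz`
  have hs3 : orderOf (f (mk (X 0) cX)) = 3 := by rw [MulEquiv.orderOf_eq, ho3]
  have ht2 : orderOf (f (mk (X 0) hzX)) = 2 := by rw [MulEquiv.orderOf_eq, ho2]
  have hst : f (mk (X 0) cX) * f (mk (X 0) hzX) = f (mk (X 0) hzX) * f (mk (X 0) cX) := by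
    rw [← map_mul, ← map_mul, hcomm]
  have h7 : 7 ∣ Nat.card (centralizer ({f (mk (X 0) cX)} : Set Suz)) := by
    obtain ⟨g, hg, -⟩ := h2
    exact LThreeCo1Twelve.Ord.seven.trans (Subgroup.card_dvd_of_surjective g hg)
  obtain ⟨g, hg⟩ := SuzYZero.conj_y0 hs3 ht2 hst h7
  have h3 := h2.map (MulAut.conj g)
  rw [MulAut.conj_apply, hg] at h3
  exact h3

end Cfsg.Agent.H811.SuzCov
end

-- part: H811/PsuH
section
/-!
# `C(e 1, e 2) / ⟨e 1, e 2⟩ ≅ PSU₄(3)` (copy of helper38's `LThreeCo1Twelve.Elim` with a smaller closure)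
-/

set_option autoImplicit false

namespace Cfsg.Agent.H811.PsuH

open Cfsg Subgroup
open Cfsg.Agent.LThreeCo1Twelve.Gam Cfsg.Agent.LThreeCo1Twelve.Ord

variable {K : Type*} [Group K]

/-- orders divisible by `5`, `7` and `3 ^ 5` -/
def Big (n : ℕ) : Prop := 5 ∣ n ∧ 7 ∣ n ∧ 3 ^ 5 ∣ n

theorem mul_big {m n : ℕ} (k : ℕ) (h : k * m = n) (hb : Big m) : Big n := by
  subst h
  exact ⟨hb.1.mul_left _, hb.2.1.mul_left _, hb.2.2.mul_left _⟩

theorem not_psu3 {F : Type} [Field F] [Fintype F] (hF : Fintype.card F = 9) : ¬ Big (Nat.card (PSU 3 F 3)) := by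
  intro h
  have h1 := Cfsg.Agent.S0280.result (F := F) (q := 3) (by rw [hF]; norm_num) 3 (by norm_num)
  rw [← mul_assoc] at h1
  have h2 := (mul_big _ h1 h).1
  revert h2
  simp [Finset.prod_range_succ]

theorem not_psu4 {F : Type} [Field F] [Fintype F] (hF : Fintype.card F = 4) : ¬ Big (Nat.card (PSU 4 F 2)) := by
  intro h
  have h1 := Cfsg.Agent.S0280.result (F := F) (q := 2) (by rw [hF]; norm_num) 4 (by norm_num)
  rw [← mul_assoc] at h1
  have h2 := (mul_big _ h1 h).2.1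
  revert h2
  have he : Even 2 := by norm_num
  have ho : ¬ Even 1 := by norm_num
  have ho' : ¬ Even 3 := by decide
  simp [Finset.prod_range_succ, he, ho, ho']

theorem not_psl4 {F : Type} [Field F] [Fintype F] (hF : Fintype.card F = 3) :
    ¬ Big (Nat.card (Matrix.ProjectiveSpecialLinearGroup (Fin 4) F)) := by
  intro h
  have h1 := Cfsg.Agent.S0243.result hF 4 (by norm_num)
  rw [← mul_assoc] at h1
  have h2 := (mul_big _ h1 h).2.1
  revert h2
  simp [Fin.prod_univ_succ]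

theorem not_g2 {F : Type} [Field F] [Fintype F] (hF : Fintype.card F = 3) :
    ¬ Big (Nat.card ↥(Cfsg.Lie.chevG2.group F)) := by
  intro h
  rw [Cfsg.Agent.S1059.result hF] at h
  exact absurd h.1 (by norm_num)

theorem card_alt (n : ℕ) (hn : 2 ≤ n) : 2 * Nat.card ↥(alternatingGroup (Fin n)) = n.factorial := by
  have : Nontrivial (Fin n) := Fin.nontrivial_iff_two_le.2 hn
  rw [Nat.card_eq_fintype_card, two_mul_card_alternatingGroup, Fintype.card_perm, Fintype.card_fin]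

theorem not_alt {n : ℕ} (hn : 2 ≤ n) (h9 : n ≤ 9) : ¬ Big (Nat.card ↥(alternatingGroup (Fin n))) := by
  intro h
  have h1 := (mul_big _ (card_alt n hn) h).2.2
  revert h1
  interval_cases n <;> decide

omit [Group K] in
theorem not_of_card {n : ℕ} (h : Nat.card K = n) (hn : ¬ Big n) : ¬ Big (Nat.card K) := by rw [h]; exact hn

theorem not_m12 (h : Spor.IsoM12 K) : ¬ Big (Nat.card K) := by
  obtain ⟨e⟩ := h
  refine not_of_card (n := 95040) ?_ (fun h => absurd h.2.1 (by norm_num))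
  rw [Nat.card_congr e.toEquiv, Cfsg.Agent.MTwelveType.SylowModel.card_M12]

theorem not_j2 (h : Spor.IsoJ2 K) : ¬ Big (Nat.card K) := by
  obtain ⟨e⟩ := h
  refine not_of_card (n := 604800) ?_ (fun h => absurd h.2.2 (by norm_num))
  rw [Nat.card_congr e.toEquiv, Cfsg.Agent.S1619.result.2.2.2]

theorem not_j3 (h : Spor.IsoJ3 K) : ¬ Big (Nat.card K) := by
  obtain ⟨F, _, _, ω, hF, hω, ⟨e⟩⟩ := h
  refine not_of_card (n := 50232960) ?_ (fun h => absurd h.2.1 (by norm_num))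
  rw [Nat.card_congr e.toEquiv, (Cfsg.Agent.S1625.result F hF ω hω).2.2.1]

theorem big_H : Big (Nat.card H) := ⟨five, seven, three⟩

theorem pre_two_card : Nat.card ↥QQ = 32 := by
  rw [Cfsg.Agent.LThreeCo1.FourCo1.pre_two.card_map, Cfsg.Agent.LThreeCo1.FourCo1.card_two]
  norm_num

/-- the generalized Fitting subgroup is everything -/
noncomputable def topEquiv : ↥(generalizedFittingSubgroup H) ≃* H :=
  (MulEquiv.subgroupCongr genFit_top).trans Subgroup.topEquiv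

/-- **`C(e 1, e 2) / ⟨e 1, e 2⟩ ≅ PSU₄(3)`** -/
theorem psu : ∃ (F : Type) (_ : Field F) (_ : Fintype F), Fintype.card F = 9 ∧ Nonempty (H ≃* PSU 4 F 3) := by
  have hm := hyp.main
  have hc := hyp.card_genFit
  rw [pre_two_card] at hc
  have hb : Big (Nat.card ↥(generalizedFittingSubgroup H)) := by
    rw [Nat.card_congr topEquiv.toEquiv]; exact big_H
  rcases Cfsg.Agent.S1759.result zH hyp.orderOf_z hyp.sympl hyp.extra hc hm.1 hm.2.1 with
    ⟨F, i1, i2, hF, ⟨⟨e⟩⟩ | ⟨⟨e⟩⟩⟩ | ⟨F, i1, i2, hF, ⟨e⟩⟩ | ⟨F, i1, i2, hF, ⟨⟨e⟩⟩ | ⟨⟨e⟩⟩⟩ | h | h | h | h | h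
  · rw [Nat.card_congr e.toEquiv] at hb
    exact absurd hb (not_psu3 hF)
  · exact ⟨F, i1, i2, hF, ⟨topEquiv.symm.trans e⟩⟩
  · rw [Nat.card_congr e.toEquiv] at hb
    exact absurd hb (not_psu4 hF)
  · rw [Nat.card_congr e.toEquiv] at hb
    exact absurd hb (not_psl4 hF)
  · rw [Nat.card_congr e.toEquiv] at hb
    exact absurd hb (not_g2 hF)
  · obtain ⟨e⟩ := h
    rw [Nat.card_congr e.toEquiv] at hb
    exact absurd hb (not_alt (by norm_num) (by norm_num))
  · obtain ⟨e⟩ := h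
    rw [Nat.card_congr e.toEquiv] at hb
    exact absurd hb (not_alt (by norm_num) (by norm_num))
  · exact absurd hb (not_m12 h)
  · exact absurd hb (not_j2 h)
  · exact absurd hb (not_j3 h)

end Cfsg.Agent.H811.PsuH
end
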